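import Cfsg.Agent.Lib.ZNStructure.Main
import Cfsg.Agent.Lib.ZCReduction.Basic
import Cfsg.Agent.Lib.TwoFusion.StrongEmb
import Cfsg.Agent.S3224

/-!
Solvable `2`-locals: the case of characteristic `2` type inside `O²(G)Ω₁(Z(S))`.
-/

set_option autoImplicit false
set_option linter.unusedSectionVars false
set_option linter.style.haveILetI false

universe u

namespace CfsgLib.ZNStructure

open Cfsg Subgroup

variable {G : Type u} [Group G] [Finite G]

theorem klein_self_centralizing : ∀ σ : Equiv.Perm (Fin 4),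
    (∀ v : Equiv.Perm (Fin 4), v * v = 1 ∧ Equiv.Perm.sign v = 1 → σ * v = v * σ) →
      σ * σ = 1 ∧ Equiv.Perm.sign σ = 1 := by decide +kernel

/-- A `2`-local isomorphic to `S₄` is the normalizer of a self-centralizing four-group. -/
theorem exists_four {M : Subgroup G} (hM : IsTwoLocal M) (e : ↥M ≃* Equiv.Perm (Fin 4)) :
    ∃ V : Subgroup G, Nat.card V = 4 ∧ (∀ v ∈ V, v * v = 1) ∧ centralizer (V : Set G) ≤ V := by
  obtain ⟨Q, hQ, hQne, rfl⟩ := hM
  obtain ⟨q, hq, hq1⟩ : ∃ q ∈ Q, q ≠ 1 := by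
    by_contra h
    push Not at h
    exact hQne ((eq_bot_iff_forall _).mpr h)
  have hin : ∀ x : ↥(normalizer (Q : Set G)), (x : G) ∈ Q → e x ∈ klein := by
    intro x hx
    by_contra hk
    obtain ⟨γ, hγ⟩ := no_normal_two _ (fun h => hk (mem_klein.mpr h))
    obtain ⟨g, hg⟩ := e.surjective γ
    have hy := mul_mem hx ((mem_normalizer_iff.mp g.2 x).mp hx)
    obtain ⟨n, hn⟩ := hQ ⟨_, hy⟩
    refine hγ (pow_eight_of_two_power _ (n := n) ?_)
    rw [← hg, ← map_inv, ← map_mul, ← map_mul, ← map_mul, ← map_pow, ← map_one e]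
    exact congrArg e (Subtype.ext (congrArg Subtype.val hn :))
  have hout : ∀ w ∈ klein, ((e.symm w : ↥(normalizer (Q : Set G))) : G) ∈ Q := by
    intro w hw
    by_cases hw1 : w = 1
    · subst hw1
      rw [map_one]
      exact one_mem Q
    set q' : ↥(normalizer (Q : Set G)) := ⟨q, le_normalizer hq⟩
    have hne : e q' ≠ 1 := fun h => hq1 (congrArg Subtype.val ((map_eq_one_iff e e.injective).mp h) :)
    obtain ⟨γ, hγ⟩ := klein_conj _ _ (mem_klein.mp (hin q' hq)) hne (mem_klein.mp hw) hw1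
    rw [show e.symm w = e.symm γ * q' * (e.symm γ)⁻¹ from e.injective (by
      rw [e.apply_symm_apply, map_mul, map_mul, map_inv, e.apply_symm_apply, hγ])]
    exact (mem_normalizer_iff.mp (e.symm γ).2 q).mp hq
  refine ⟨Q, ?_, fun v hv => ?_, fun g hg => ?_⟩
  · rw [← card_klein]
    exact (Nat.card_congr
      { toFun := fun w : klein => (⟨_, hout w w.2⟩ : ↥Q)
        invFun := fun x => ⟨e ⟨x, le_normalizer x.2⟩, hin _ x.2⟩
        left_inv := fun w => Subtype.ext (e.apply_symm_apply _)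
        right_inv := fun x => Subtype.ext (congrArg Subtype.val (e.symm_apply_apply ⟨(x : G), le_normalizer x.2⟩) :) }).symm
  · have h := (mem_klein.mp (hin ⟨v, le_normalizer hv⟩ hv)).1
    rw [← map_mul, map_eq_one_iff e e.injective] at h
    exact congrArg Subtype.val h
  · have hgN : g ∈ normalizer (Q : Set G) := JComp.mem_normalizer_of_conj_mem fun x hx => by
      rw [← mem_centralizer_iff.mp hg x hx, mul_inv_cancel_right]; exact hx
    have h := klein_self_centralizing (e ⟨g, hgN⟩) fun w hw => by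
      have hc := mem_centralizer_iff.mp hg _ (hout w (mem_klein.mpr hw))
      rw [← e.apply_symm_apply w, ← map_mul, ← map_mul]
      exact congrArg e (Subtype.ext hc.symm)
    have h' := hout _ (mem_klein.mpr h)
    rwa [e.symm_apply_apply] at h'

/-- A `2`-group with a self-centralizing four-group. -/
theorem dihedral_or_semi {R : Type u} [Group R] [Finite R] (hR : IsPGroup 2 R) (W : Subgroup R)
    (h4 : Nat.card W = 4) (hsq : ∀ w ∈ W, w * w = 1) (hC : centralizer (W : Set R) ≤ W) :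
    (∃ n : ℕ, 2 ≤ n ∧ Nonempty (R ≃* DihedralGroup n)) ∨ IsQuasiDihedral R := by
  classical
  haveI : Fact (Nat.Prime 2) := ⟨Nat.prime_two⟩
  have hfour : IsKleinFour R → (∃ n : ℕ, 2 ≤ n ∧ Nonempty (R ≃* DihedralGroup n)) ∨ IsQuasiDihedral R := fun h =>
    Or.inl ⟨2, le_rfl, IsKleinFour.nonempty_mulEquiv⟩
  by_cases htop : W = ⊤
  · refine hfour ⟨by rw [← h4, htop, card_top], ?_⟩
    obtain ⟨w, hw⟩ : ∃ w : R, w ≠ 1 := by
      by_contra h
      push Not at h
      have := card_eq_one.mpr ((eq_bot_iff_forall W).mpr fun x _ => h x)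
      omega
    refine ((Nat.dvd_prime Nat.prime_two).mp (Monoid.exponent_dvd_of_forall_pow_eq_one fun x => by
      rw [pow_two]; exact hsq x (htop.ge (mem_top x)))).resolve_left fun e => hw ?_
    have := Monoid.pow_exponent_eq_one w
    rwa [e, pow_one] at this
  haveI : Nontrivial R := Finite.one_lt_card_iff_nontrivial.mp (by
    have := W.card_le_card_group
    omega)
  haveI := hR.center_nontrivial
  obtain ⟨⟨z, hz⟩, hz1'⟩ := exists_ne (1 : ↥(center R))
  have hz1 : z ≠ 1 := fun e => hz1' (Subtype.ext e)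
  have hzW : z ∈ W := hC (mem_centralizer_iff.mpr fun w _ => mem_center_iff.mp hz w)
  obtain ⟨u, hu, huZ⟩ : ∃ u ∈ W, u ∉ center R := by
    by_contra h
    push Not at h
    exact htop (top_le_iff.mp fun x _ => hC (mem_centralizer_iff.mpr fun w hw => (mem_center_iff.mp (h w hw) x).symm))
  have hu1 : u ≠ 1 := fun e => huZ (e ▸ one_mem _)
  have huz : u ≠ z := fun e => huZ (e ▸ hz)
  have hzz : u * z ≠ 1 := fun e => huz (by
    rw [eq_inv_of_mul_eq_one_left e, inv_eq_of_mul_eq_one_left (hsq z hzW)])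
  have hWset : (W : Set R) = {1, u, z, u * z} := by
    refine (Set.eq_of_subset_of_ncard_le ?_ ?_ (Set.toFinite _)).symm
    · rintro x (rfl | rfl | rfl | rfl)
      exacts [one_mem _, hu, hzW, mul_mem hu hzW]
    · rw [Set.ncard_insert_of_notMem (by simp [hu1.symm, hz1.symm, hzz.symm]) (Set.toFinite _),
        Set.ncard_insert_of_notMem (by simp [huz, hz1]) (Set.toFinite _), Set.ncard_pair (fun e => hu1
          (mul_eq_right.mp e.symm)), ← Nat.card_coe_set_eq]
      exact h4.le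
  have hcent : centralizer ({u} : Set R) = W := by
    refine le_antisymm (fun g hg => hC (mem_centralizer_iff.mpr fun w hw => ?_)) fun g hg => ?_
    · have hgu : g * u = u * g := mem_centralizer_singleton_iff.mp hg
      have hgz : g * z = z * g := mem_center_iff.mp hz g
      have hw' : w ∈ (W : Set R) := hw
      rw [hWset] at hw'
      rcases hw' with rfl | rfl | rfl | rfl
      · rw [one_mul, mul_one]
      · exact hgu.symm
      · exact hgz.symm
      · rw [mul_assoc, ← hgz, ← mul_assoc, ← hgu, mul_assoc]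
    · refine mem_centralizer_singleton_iff.mpr ?_
      calc g * u = (g * u)⁻¹ := eq_inv_of_mul_eq_one_left (hsq _ (mul_mem hg hu))
        _ = u * g := by rw [mul_inv_rev, inv_eq_of_mul_eq_one_left (hsq _ hg), inv_eq_of_mul_eq_one_left (hsq _ hu)]
  rcases Cfsg.Agent.S3224.result hR u (orderOf_eq_prime (by rw [pow_two]; exact hsq u hu) hu1) (hcent.symm ▸ h4) with
    ⟨n, ⟨e⟩⟩ | h | h
  · refine Or.inl ⟨n, ?_, ⟨e⟩⟩
    have h := Nat.card_congr e.toEquiv
    rw [DihedralGroup.nat_card] at h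
    have := W.card_le_card_group
    omega
  · exact Or.inr h
  · exact absurd (eq_top_of_card_eq W (h4.trans h.symm)) htop

/-- In a group with trivial cores and even order the elements of odd order generate a subgroup of even order. -/
theorem two_dvd_residual (hO' : pPrimeCore 2 G = ⊥) (hO : pCore 2 G = ⊥) (heven : Even (Nat.card G)) :
    2 ∣ Nat.card ↥(pResidual 2 G) := by
  by_contra hd
  haveI : Fact (Nat.Prime 2) := ⟨Nat.prime_two⟩
  haveI := CfsgLib.PResidual.pResidual_normal (G := G) (p := 2)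
  obtain ⟨S⟩ := (inferInstance : Nonempty (Sylow 2 G))
  have hb : pResidual 2 G = ⊥ := le_bot_iff.mp (hO' ▸ CfsgLib.le_pPrimeCore (p := 2) (N := pResidual 2 G)
    ((Nat.prime_two.coprime_iff_not_dvd.mpr hd).symm))
  have hS := CfsgLib.PResidual.pResidual_sup_sylow S
  rw [hb, sup_bot_eq] at hS
  have hG : IsPGroup 2 ↥(⊤ : Subgroup G) := hS ▸ S.isPGroup'
  have htop : (⊤ : Subgroup G) = ⊥ := le_bot_iff.mp (hO ▸ CfsgLib.le_pCore hG)
  rw [← card_top (G := G), htop, card_bot] at heven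
  exact Nat.not_even_one heven

/-- The last case of the reduction. -/
theorem zn_last (hN : ∀ L : Subgroup G, IsTwoLocal L → Group.IsSolvable ↥L)
    (hZ : ∀ S : Sylow 2 G, centralizer (omegaOne 2 ((S : Subgroup G) ⊓ centralizer ((S : Subgroup G) : Set G)) : Set G) ≤
      normalizer ((S : Subgroup G) : Set G))
    (heven : Even (Nat.card G)) (hOp : pPrimeCore 2 G = ⊥) (hO : pCore 2 G = ⊥) (S : Sylow 2 G)
    (hX : IsCharacteristicTwoType
      ↥(pResidual 2 G ⊔ omegaOne 2 ((S : Subgroup G) ⊓ centralizer ((S : Subgroup G) : Set G)))) :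
    (∃ M : Subgroup ↥(pResidual 2 G), IsStronglyEmbedded M) ∨
      (∃ n : ℕ, 2 ≤ n ∧ Nonempty (↥((S : Subgroup G) ⊓ pResidual 2 G) ≃* DihedralGroup n)) ∨
      IsQuasiDihedral ↥((S : Subgroup G) ⊓ pResidual 2 G) := by
  classical
  haveI : Fact (Nat.Prime 2) := ⟨Nat.prime_two⟩
  haveI hHn : (pResidual 2 G).Normal := CfsgLib.PResidual.pResidual_normal (G := G) (p := 2)
  set H := pResidual 2 G with hH
  set Z := omegaOne 2 ((S : Subgroup G) ⊓ centralizer ((S : Subgroup G) : Set G)) with hZdef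
  set X := H ⊔ Z with hXdef
  have hZS : ∀ w ∈ Z, ∀ s ∈ (S : Subgroup G), s * w = w * s := fun w hw s hs =>
    mem_centralizer_iff.mp (((closure_le _).mpr (fun x hx => hx.1) hw : w ∈ (S : Subgroup G) ⊓ centralizer _)).2 s hs
  have hSN : (S : Subgroup G) ≤ normalizer (X : Set G) := fun s hs => Local.mem_normalizer_of_map_conj_eq (by
    refine eq_of_le_of_card_ge ?_ (card_map_of_injective (MulEquiv.injective (MulAut.conj s))).ge
    rw [hXdef, Subgroup.map_sup]
    refine sup_le_sup ?_ ?_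
    · rintro _ ⟨w, hw, rfl⟩
      exact hHn.conj_mem w hw s
    · rintro _ ⟨w, hw, rfl⟩
      show s * w * s⁻¹ ∈ Z
      rw [hZS w hw s hs, mul_inv_cancel_right]
      exact hw)
  haveI hXn : X.Normal := normalizer_eq_top_iff.mp (top_le_iff.mp
    ((CfsgLib.PResidual.pResidual_sup_sylow S).ge.trans (sup_le hSN (le_sup_left.trans le_normalizer))))
  have hO' : pCore 2 ↥X = ⊥ := by
    haveI : (pCore 2 ↥X).Characteristic := inferInstance
    refine (Subgroup.map_eq_bot_iff_of_injective _ X.subtype_injective).mp (le_bot_iff.mp ?_)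
    haveI : ((pCore 2 ↥X).map X.subtype).Normal := ConjAct.normal_of_characteristic_of_normal
    exact (CfsgLib.le_pCore ((CfsgLib.isPGroup_pCore 2).map _)).trans hO.le
  have hN' : ∀ L : Subgroup ↥X, IsTwoLocal L → Group.IsSolvable ↥L := by
    rintro L ⟨Q, hQ, hQne, rfl⟩
    haveI := hN _ (JComp.isTwoLocal_normalizer (hQ.map X.subtype) fun e => hQne
      ((Subgroup.map_eq_bot_iff_of_injective _ X.subtype_injective).mp e))
    let f : ↥(normalizer (Q : Set ↥X)) →* ↥(normalizer ((Q.map X.subtype : Subgroup G) : Set G)) :=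
      (X.subtype.comp (Subgroup.subtype _)).codRestrict _ fun x =>
        le_normalizer_map (H := Q) X.subtype ⟨x.1, x.2, rfl⟩
    exact Group.isSolvable_of_isSolvable_injective (f := f) fun a b h =>
      Subtype.ext (Subtype.ext (congrArg Subtype.val h :))
  have hZ' : ∀ S₀ : Sylow 2 ↥X,
      centralizer {z : ↥X | z ∈ (S₀ : Subgroup ↥X) ∧ z ^ 2 = 1 ∧ ∀ s ∈ (S₀ : Subgroup ↥X), s * z = z * s} ≤
        normalizer ((S₀ : Subgroup ↥X) : Set ↥X) := by
    intro S₀ g hg
    obtain ⟨S₁, hS₁⟩ := (S₀.isPGroup'.map X.subtype).exists_le_sylow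
    have e : (S₁ : Subgroup G).subgroupOf X = (S₀ : Subgroup ↥X) := S₀.is_maximal'
      (S₁.isPGroup'.comap_of_injective X.subtype X.subtype_injective) fun x hx => hS₁ ⟨x, hx, rfl⟩
    obtain ⟨a, ha⟩ := MulAction.exists_smul_eq G S S₁
    have hSa : ∀ x, x ∈ (S₁ : Subgroup G) ↔ ∃ y ∈ (S : Subgroup G), a * y * a⁻¹ = x := fun x => by
      rw [← ha]; exact Iff.rfl
    have hg' : (g : G) ∈ normalizer ((S₁ : Subgroup G) : Set G) := by
      refine hZ S₁ ?_
      rw [omegaOne, centralizer_closure, mem_centralizer_iff]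
      rintro z ⟨⟨hz, hzc⟩, hz2⟩
      have hzX : z ∈ X := by
        obtain ⟨y, hy, rfl⟩ := (hSa z).mp hz
        refine hXn.conj_mem _ (mem_sup_right (subset_closure ⟨⟨hy, mem_centralizer_iff.mpr fun s hs => ?_⟩, ?_⟩)) a
        · have h := mem_centralizer_iff.mp hzc _ ((hSa _).mpr ⟨s, hs, rfl⟩)
          rw [conj_mul, conj_mul] at h
          exact mul_left_cancel (mul_right_cancel h)
        · rw [conj_pow, conj_eq_one_iff] at hz2
          exact hz2
      have h := mem_centralizer_iff.mp hg ⟨z, hzX⟩ ⟨e ▸ (show (⟨z, hzX⟩ : ↥X) ∈ (S₁ : Subgroup G).subgroupOf X from hz),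
        Subtype.ext hz2, fun s hs => Subtype.ext (mem_centralizer_iff.mp hzc (s : G) (e.ge hs : _))⟩
      exact congrArg Subtype.val h
    rw [← e]
    exact JComp.mem_normalizer_of_conj_mem fun x hx => (mem_normalizer_iff.mp hg' (x : G)).mp hx
  have hodd : ∀ x : ↥X, (x : G) ∈ H → x ∈ closure {g : ↥X | Odd (orderOf g)} := by
    have hle : H ≤ (closure {g : ↥X | Odd (orderOf g)}).map X.subtype := (closure_le _).mpr fun g hg => by
      have hgX : g ∈ X := mem_sup_left (subset_closure hg)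
      refine ⟨⟨g, hgX⟩, subset_closure ?_, rfl⟩
      show Odd (orderOf (⟨g, hgX⟩ : ↥X))
      rw [Subgroup.orderOf_mk]
      exact Nat.coprime_two_right.mp hg
    intro x hx
    obtain ⟨y, hy, e⟩ := hle hx
    rwa [← X.subtype_injective e]
  have hodd' : closure {g : ↥X | Odd (orderOf g)} ≤ H.subgroupOf X := (closure_le _).mpr fun g hg => by
    refine subset_closure ?_
    show Nat.Coprime (orderOf ((g : ↥X) : G)) 2
    rw [Subgroup.orderOf_coe]
    exact Nat.coprime_two_right.mpr hg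
  rcases main hX hO' hN' hZ' _ rfl with ⟨K, hK⟩ | ⟨M₁, -, -, hM₁, -, ⟨e⟩, -, -⟩
  · left
    set X' := H.subgroupOf X with hX'
    haveI : X'.Normal := inferInstance
    obtain ⟨t, ht⟩ : ∃ t : ↥X, orderOf t = 2 ∧ (t : G) ∈ H := by
      by_contra hcon
      have h2 : ¬ 2 ∣ Nat.card X' := fun h2 => by
        obtain ⟨t, ht⟩ := exists_prime_orderOf_dvd_card' 2 h2
        exact hcon ⟨t, by rwa [Subgroup.orderOf_coe], t.2⟩
      exact h2 (by
        rw [hX', JComp.card_subgroupOf_le le_sup_left]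
        exact two_dvd_residual hOp hO heven)
    obtain ⟨ht2, htH⟩ := ht
    obtain ⟨s, hs, hs2⟩ := CfsgLib.StrongEmb.exists_inv hK
    have hsH : (s : G) ∈ H := by
      obtain ⟨c, hc⟩ := isConj_iff.mp (CfsgLib.StrongEmb.all_isConj hK ht2 hs2)
      rw [← hc]
      exact hHn.conj_mem _ htH _
    have hHX : H ≤ X := le_sup_left
    refine ⟨K.comap (Subgroup.inclusion hHX), fun htop => ?_, ?_, fun g hg => ?_⟩
    · obtain ⟨g, -, hg⟩ := SetLike.exists_of_lt (lt_top_iff_ne_top.mpr hK.1)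
      have hin : ∀ x : ↥X, (x : G) ∈ H → x ∈ K := fun x hx => by
        have := htop.ge (mem_top (⟨x, hx⟩ : ↥H))
        exact this
      exact hg (CfsgLib.StrongEmb.mem_of_conj hK hs hs2 (hin _ (hHn.conj_mem _ hsH _)))
    · refine even_iff_two_dvd.mpr ?_
      have h := Subgroup.orderOf_dvd_natCard (K.comap (Subgroup.inclusion hHX)) (x := ⟨(s : G), hsH⟩) hs
      rwa [Subgroup.orderOf_mk, Subgroup.orderOf_coe, hs2] at h
    · refine Odd.of_dvd_nat (hK.2.2 (Subgroup.inclusion hHX g) hg) ?_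
      rw [← card_map_of_injective (Subgroup.inclusion_injective hHX)]
      refine card_dvd_of_le ?_
      rintro _ ⟨x, ⟨hx1, y, hy, hxy⟩, rfl⟩
      exact ⟨hx1, Subgroup.inclusion hHX y, hy, by rw [← hxy]; exact Subtype.ext rfl⟩
  · right
    obtain ⟨V, hV4, hV2, hVc⟩ := exists_four hM₁.1 e
    set ι : ↥(closure {g : ↥X | Odd (orderOf g)}) →* G := X.subtype.comp (Subgroup.subtype _) with hι
    have hinj : Function.Injective ι := fun a b h => Subtype.ext (Subtype.ext h)
    set V' := V.map ι with hV'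
    have hV'H : V' ≤ H := by rintro _ ⟨x, -, rfl⟩; exact hodd' x.2
    have hV'p : IsPGroup 2 ↥V' := fun x => ⟨1, by
      obtain ⟨w, hw, e⟩ := x.2
      rw [pow_one, pow_two]
      refine Subtype.ext ?_
      show (x : G) * x = 1
      rw [← e, ← map_mul, hV2 w hw, map_one]⟩
    have hV'c : ∀ g ∈ H, (∀ v ∈ V', v * g = g * v) → g ∈ V' := fun g hg hcomm =>
      ⟨⟨⟨g, mem_sup_left hg⟩, hodd _ hg⟩, hVc (mem_centralizer_iff.mpr fun v hv =>
        hinj (by rw [map_mul, map_mul]; exact hcomm _ ⟨v, hv, rfl⟩)), rfl⟩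
    have hsyl : IsSylowTwoIn ((S : Subgroup G) ⊓ H) H :=
      ⟨inf_le_right, S.isPGroup'.to_le inf_le_left, Nat.not_even_iff_odd.mp fun h =>
        CfsgLib.ZCReduction.sylow_inf S H (even_iff_two_dvd.mp h)⟩
    obtain ⟨m, hm, hle⟩ := JComp.exists_conj_le hsyl hV'p hV'H
    set W := (V'.map (MulAut.conj m).toMonoidHom).subgroupOf ((S : Subgroup G) ⊓ H)
    refine dihedral_or_semi (S.isPGroup'.to_le inf_le_left) W ?_ (fun w hw => ?_) fun g hg => ?_
    · rw [JComp.card_subgroupOf_le hle, card_map_of_injective (MulEquiv.injective _), hV',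
        card_map_of_injective hinj, hV4]
    · obtain ⟨_, ⟨v, hv, rfl⟩, e⟩ := mem_subgroupOf.mp hw
      refine Subtype.ext ?_
      show (w : G) * w = 1
      rw [← e, ← map_mul, ← map_mul, hV2 v hv, map_one, map_one]
    · refine mem_subgroupOf.mpr ⟨m⁻¹ * g * m, hV'c _ (mul_mem (mul_mem (inv_mem hm) g.2.2) hm) fun v hv => ?_,
        by simp [mul_assoc]⟩
      have h := congrArg Subtype.val (mem_centralizer_iff.mp hg ⟨m * v * m⁻¹, hle ⟨v, hv, rfl⟩⟩
        (mem_subgroupOf.mpr ⟨v, hv, rfl⟩))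
      calc v * (m⁻¹ * g * m) = m⁻¹ * (m * v * m⁻¹ * g) * m := by group
        _ = m⁻¹ * ((g : G) * (m * v * m⁻¹)) * m := by rw [show m * v * m⁻¹ * (g : G) = g * (m * v * m⁻¹) from h]
        _ = m⁻¹ * g * m * v := by group

end CfsgLib.ZNStructure
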