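import Cfsg.Agent.Lib.ZNStructure.Finish
import Cfsg.Agent.Lib.JComp.Config
import Cfsg.Agent.S2954

/-!
Groups of characteristic `2` type with solvable `2`-locals and small centralizers of central involutions.
-/

set_option autoImplicit false
set_option linter.unusedSectionVars false
set_option linter.style.haveILetI false

universe u

namespace CfsgLib.ZNStructure

open Cfsg Subgroup

variable {G : Type u} [Group G] [Finite G]

theorem exists_max_straddling {M : Subgroup G} (h : straddlingTwoSubgroups M ≠ ∅) :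
    ∃ T, T ∈ maxStraddlingTwoSubgroups M := by
  set N := Nat.card G + 1 with hN
  let fm : Subgroup G → ℕ := fun A =>
    maxElemAbelianOrder A * (N * N) + Nat.card ↥(thompsonSubgroupOf 2 A) * N + Nat.card A
  obtain ⟨T1, hT1, hmax⟩ := Set.exists_max_image (straddlingTwoSubgroups M) fm (Set.toFinite _)
    (Set.nonempty_iff_ne_empty.mpr h)
  refine ⟨T1, hT1, fun A hA => ?_⟩
  have hm := hmax A hA
  have hb : ∀ B : Subgroup G, Nat.card B < N := fun B => by
    have := card_le_card_group B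
    omega
  have hJ1 := hb (thompsonSubgroupOf 2 T1)
  have hJA := hb (thompsonSubgroupOf 2 A)
  have h1b := hb T1
  have hAb := hb A
  simp only [fm] at hm
  refine ⟨?_, fun he => ⟨?_, fun hj => ?_⟩⟩
  · by_contra hlt
    push Not at hlt
    have := Nat.mul_le_mul_right (N * N) hlt
    nlinarith
  · rw [he] at hm
    by_contra hlt
    push Not at hlt
    have := Nat.mul_le_mul_right N hlt
    nlinarith
  · rw [he, hj] at hm
    omega

theorem locFour {T P : Subgroup G} (hmax : IsMaximalTwoLocal P) (hsyl : IsSylowTwoIn T P)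
    (e : ↥P ≃* Equiv.Perm (Fin 4)) : ∃ L : Loc T P, L.K = ⊥ := by
  refine ⟨⟨hmax, hsyl, e.toMonoidHom, e.surjective, fun x hx => e.injective (by
    rw [map_mul, map_one]; exact (mem_klein.mp hx).1)⟩, ?_⟩
  show (e.toMonoidHom.ker).map P.subtype = ⊥
  rw [(MonoidHom.ker_eq_bot_iff _).mpr e.injective, Subgroup.map_bot]

theorem Loc2.kernel {T P : Subgroup G} (L : Loc2 T P) {H : Subgroup G} (hc : L.c ∉ H) :
    ∀ x ∈ L.loc.K, x ∈ H → x = 1 := by
  intro x hx hxH
  obtain ⟨hxP, hx1⟩ := L.loc.mem_K.mp hx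
  have h1 : (L.e ⟨x, hxP⟩).1 = 1 := hx1
  rcases ctwo_cases (L.e ⟨x, hxP⟩).2 with h | h
  · exact congrArg Subtype.val ((map_eq_one_iff L.e L.e.injective).mp (Prod.ext h1 h) :)
  · refine absurd ?_ hc
    have : (⟨x, hxP⟩ : ↥P) = ⟨L.c, L.c_mem⟩ := L.e.injective (by rw [L.e_c]; exact Prod.ext h1 h)
    rw [← show x = L.c from congrArg Subtype.val this]
    exact hxH

/-- The structure theorem. -/
theorem main (hL : IsCharacteristicTwoType G) (hO : pCore 2 G = ⊥)
    (hN : ∀ N : Subgroup G, IsTwoLocal N → Group.IsSolvable ↥N)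
    (hZ : ∀ S : Sylow 2 G,
      centralizer {z : G | z ∈ (S : Subgroup G) ∧ z ^ 2 = 1 ∧ ∀ s ∈ (S : Subgroup G), s * z = z * s} ≤
        normalizer ((S : Subgroup G) : Set G))
    (H : Subgroup G) (hH : H = closure {g : G | Odd (orderOf g)}) :
    (∃ K : Subgroup G, IsStronglyEmbedded K) ∨
      ∃ M₁ M₂ : Subgroup H, M₁ ≠ M₂ ∧ IsMaximalTwoLocal M₁ ∧ IsMaximalTwoLocal M₂ ∧
        Nonempty (M₁ ≃* Equiv.Perm (Fin 4)) ∧ Nonempty (M₂ ≃* Equiv.Perm (Fin 4)) ∧ Nat.card ↥(M₁ ⊓ M₂) = 8 := by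
  haveI : Fact (Nat.Prime 2) := ⟨Nat.prime_two⟩
  have hZ' : ∀ S : Sylow 2 G, centralizer (omegaCenterOf (S : Subgroup G) : Set G) ≤
      normalizer ((S : Subgroup G) : Set G) := fun S => by
    refine le_trans ?_ (hZ S)
    refine centralizer_le fun z hz => subset_closure ⟨⟨hz.1, ?_⟩, hz.2.1⟩
    exact mem_centralizer_iff.mpr fun s hs => hz.2.2 s hs
  obtain ⟨S⟩ := (inferInstance : Nonempty (Sylow 2 G))
  have hS : (S : Subgroup G) ≠ ⊥ := by
    intro e
    have := S.not_dvd_index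
    rw [e, index_bot] at this
    exact this (even_iff_two_dvd.mp hL.1)
  set M := normalizer (thompsonSubgroupOf 2 (S : Subgroup G) : Set G) with hMdef
  have hM : IsTwoLocal M := JComp.isTwoLocal_normalizer
    (S.isPGroup'.to_le (map_subtype_le _)) (JComp.thompson_ne_bot S.isPGroup' hS)
  by_cases hemp : straddlingTwoSubgroups M = ∅
  · exact Or.inl ⟨M, (JComp.stronglyEmbedded_iff hO hM le_rfl).mpr hemp⟩
  refine Or.inr ?_
  obtain ⟨T, hT⟩ := exists_max_straddling hemp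
  obtain ⟨P₁, P₂, hne, hm₁, hm₂, hs₁, hs₂, hiso⟩ := Cfsg.Agent.S2954.result hL hN hZ' hO S M hM le_rfl T hT
  have hHn : H.Normal := by
    subst hH
    refine ⟨fun x hx g => ?_⟩
    have h : (closure {g : G | Odd (orderOf g)}).map (MulAut.conj g).toMonoidHom ≤
        closure {g : G | Odd (orderOf g)} := by
      rw [MonoidHom.map_closure, closure_le]
      rintro _ ⟨a, ha, rfl⟩
      refine subset_closure ?_
      show Odd (orderOf ((MulAut.conj g) a))
      rwa [MulEquiv.orderOf_eq]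
    exact h ⟨x, hx, rfl⟩
  have hod : ∀ P : Subgroup G, od P ≤ H := fun P => hH ▸ od_le_closure_odd P
  rcases hiso with ⟨⟨e₁⟩, ⟨e₂⟩⟩ | ⟨⟨e₁⟩, ⟨e₂⟩⟩
  · obtain ⟨L, hLK⟩ := locFour hm₁ hs₁ e₁
    obtain ⟨L', hLK'⟩ := locFour hm₂ hs₂ e₂
    exact finish H L L' hne (hod _) (hod _) (fun x hx _ => mem_bot.mp (hLK ▸ hx))
      fun x hx _ => mem_bot.mp (hLK' ▸ hx)
  · let L : Loc2 T P₁ := ⟨hm₁, hs₁, e₁⟩
    let L' : Loc2 T P₂ := ⟨hm₂, hs₂, e₂⟩
    exact finish H L.loc L'.loc hne (hod _) (hod _)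
      (L.kernel (hH ▸ L.c_not_mem L' hne hZ)) (L'.kernel (hH ▸ L'.c_not_mem L hne.symm hZ))

end CfsgLib.ZNStructure
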