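import Cfsg.Agent.Lib.ZNStructure.Plus

/-!
The central involution of a local of shape `S₄ × C₂` is not a product of elements of odd order.
-/

set_option autoImplicit false
set_option linter.unusedSectionVars false
set_option linter.style.haveILetI false

universe u

namespace CfsgLib.ZNStructure

open Cfsg Subgroup

variable {G : Type u} [Group G] [Finite G]

theorem commutative_of_card_le_four {X : Type*} [Group X] [Finite X] (hX : IsPGroup 2 X) (h : Nat.card X ≤ 4)
    (a b : X) : a * b = b * a := by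
  haveI : Fact (Nat.Prime 2) := ⟨Nat.prime_two⟩
  obtain ⟨k, hk⟩ := IsPGroup.iff_card.mp hX
  have hk2 : k ≤ 2 := by
    by_contra hc
    have : 2 ^ 3 ≤ 2 ^ k := Nat.pow_le_pow_right two_pos (by omega)
    omega
  interval_cases k
  · haveI := (Nat.card_eq_one_iff_unique.mp hk).1
    exact Subsingleton.elim _ _
  · haveI : IsCyclic X := isCyclic_of_prime_card (p := 2) hk
    haveI : IsMulCommutative X := IsCyclic.commutative
    exact IsMulCommutative.is_comm.comm a b
  · exact IsPGroup.commutative_of_card_eq_prime_sq (p := 2) hk a b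

namespace Loc2

variable {T P Q : Subgroup G} (L : Loc2 T P) (M : Loc2 T Q) (hne : P ≠ Q)
include L M hne

theorem conj_c_mem_T (S : Sylow 2 G) (hTS : T ≤ (S : Subgroup G))
    (hZ : centralizer {w : G | w ∈ (S : Subgroup G) ∧ w ^ 2 = 1 ∧ ∀ s ∈ (S : Subgroup G), s * w = w * s} ≤
      normalizer ((S : Subgroup G) : Set G)) {y : G} (hy : y ∈ (S : Subgroup G)) (hconj : IsConj L.c y) :
    y ∈ T := by
  by_contra hyT
  obtain ⟨g, hg⟩ := isConj_iff.mp hconj
  obtain ⟨z, hzL, hzM, hz1, hsq, -⟩ := L.exists_z M hne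
  obtain ⟨u, hu, huM⟩ := SetLike.not_le_iff_exists.mp (L.not_le M hne)
  have hyN := L.le_normalizer_T M hne S hTS hy
  have hy2 : y * y = 1 := by
    rw [← hg, show g * L.c * g⁻¹ * (g * L.c * g⁻¹) = g * (L.c * L.c) * g⁻¹ by group, L.c_sq]
    group
  have hyi : y⁻¹ = y := inv_eq_of_mul_eq_one_left hy2
  -- the element `d` of order four
  have hu2 : u * u = 1 := L.loc.A_sq hu.1
  set v := y * u * y⁻¹ with hvdef
  have hv : v ∈ M.B := L.conj_B M hne S hTS hy hyN hyT hu
  have hv2 : v * v = 1 := M.loc.A_sq hv.1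
  have hvL : v ∉ L.loc.A := fun h => huM (by
    have h' := M.swap L hne.symm S hTS hy hyN hyT
    rw [← h'] at h
    obtain ⟨w, hw, e⟩ := h
    rwa [(MulAut.conj y).injective e] at hw)
  have hd : u * v ∈ T := mul_mem (L.B_le hu) (M.B_le hv)
  have hdz : u * v * (u * v) = z := (hsq _ hd).resolve_left fun e => by
    rcases L.loc.invol_mem M.loc hne hd e with h | h
    · exact hvL (by simpa using mul_mem (L.loc.A.inv_mem hu.1) h)
    · exact huM (by simpa [mul_assoc] using mul_mem h (M.loc.A.inv_mem hv.1))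
  have hyz : y * z * y⁻¹ = z := fix_z hz1 hsq hd hdz fun t ht => (mem_normalizer_iff.mp hyN t).mp ht
  have hyd : y * (u * v) * y⁻¹ = v * u := by
    rw [← conj_mul, ← hvdef]
    congr 1
    rw [hvdef, show y * (y * u * y⁻¹) * y⁻¹ = (y * y) * u * (y * y)⁻¹ by group, hy2]
    group
  have hvu : v * u = u * v * z := by
    rw [← hdz, ← mul_assoc]
    have h4 : u * v * (u * v) * (u * v * (u * v)) = 1 := by rw [hdz]; exact L.loc.A_sq hzL.1
    calc v * u = (u * v)⁻¹ := by
          rw [mul_inv_rev, inv_eq_of_mul_eq_one_left hu2, inv_eq_of_mul_eq_one_left hv2]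
      _ = u * v * (u * v) * (u * v) := (eq_inv_of_mul_eq_one_left (by rw [← h4]; group)).symm
  -- the involution `c` moves to `c * z`
  have hcI : L.c ∈ L.loc.A ∧ L.c ∈ M.loc.A := ⟨L.c_mem_A, M.loc.cent_A (L.loc.A_le_T L.c_mem_A) fun a ha =>
    (L.c_comm (L.syl.1 (M.loc.A_le_T ha))).symm⟩
  set c' := y * L.c * y⁻¹ with hc'
  have hc'I : c' ∈ L.loc.A ∧ c' ∈ M.loc.A :=
    ⟨M.swap L hne.symm S hTS hy hyN hyT ▸ ⟨L.c, hcI.2, rfl⟩, L.swap M hne S hTS hy hyN hyT ▸ ⟨L.c, hcI.1, rfl⟩⟩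
  have hccy : y * (L.c * c') * y⁻¹ = L.c * c' := by
    rw [← conj_mul, ← hc', hc', show y * (y * L.c * y⁻¹) * y⁻¹ = (y * y) * L.c * (y * y)⁻¹ by group, hy2,
      ← hc', show (1 : G) * L.c * 1⁻¹ = L.c by group]
    exact L.loc.A_comm hc'I.1 hcI.1
  have hcc : L.c * c' = z :=
    (L.fixed_inter M hne S hTS hy hyT hzL hzM hz1 hyz (mul_mem hcI.1 hc'I.1) (mul_mem hcI.2 hc'I.2) hccy).resolve_left
      fun e => L.c_moved M hne S hTS hy hyT (by
        rw [← hc', eq_inv_of_mul_eq_one_right e, inv_eq_of_mul_eq_one_left L.c_sq])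
  have hc'e : c' = L.c * z := by rw [← hcc, ← mul_assoc, L.c_sq, one_mul]
  -- `w = c * u * v` is fixed by `y` and squares to `z`
  set w := L.c * (u * v) with hw
  have hcd : L.c * (u * v) = u * v * L.c := (L.c_comm (L.syl.1 hd)).symm
  have hzd : z * (u * v) = u * v * z := by rw [← hdz]; group
  have hyw : y * w * y⁻¹ = w := by
    rw [hw, ← conj_mul, ← hc', hc'e, hyd, hvu, mul_assoc, ← mul_assoc z (u * v) z, hzd, mul_assoc, L.loc.A_sq hzL.1,
      mul_one]
  have hwz : w * w = z := by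
    rw [hw]
    calc L.c * (u * v) * (L.c * (u * v)) = L.c * (u * v * L.c) * (u * v) := by group
      _ = (L.c * L.c) * (u * v * (u * v)) := by rw [← hcd]; group
      _ = z := by rw [L.c_sq, one_mul, hdz]
  -- transport to the centralizer of `c`
  have hw'P : g⁻¹ * w * g ∈ P := by
    refine L.centralizer_c.le (mem_centralizer_singleton_iff.mpr ?_)
    have h : w * y = y * w := (mul_inv_eq_iff_eq_mul.mp hyw).symm
    calc g⁻¹ * w * g * L.c = g⁻¹ * (w * (g * L.c * g⁻¹)) * g := by group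
      _ = g⁻¹ * ((g * L.c * g⁻¹) * w) * g := by rw [hg, h]
      _ = L.c * (g⁻¹ * w * g) := by group
  have hpg : IsPGroup 2 ↥(zpowers (g⁻¹ * w * g)) := fun x => ⟨2, by
    obtain ⟨k, hk⟩ := mem_zpowers_iff.mp x.2
    refine Subtype.ext ?_
    show (x : G) ^ 2 ^ 2 = 1
    have h4 : (g⁻¹ * w * g) ^ 4 = 1 := by
      rw [show (4 : ℕ) = 2 * 2 from rfl, pow_mul, pow_two (g⁻¹ * w * g),
        show g⁻¹ * w * g * (g⁻¹ * w * g) = g⁻¹ * (w * w) * g by group, hwz, pow_two,
        show g⁻¹ * z * g * (g⁻¹ * z * g) = g⁻¹ * (z * z) * g by group, L.loc.A_sq hzL.1]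
      group
    rw [← hk, show (2 : ℕ) ^ 2 = 4 from rfl, ← zpow_natCast, ← zpow_mul, mul_comm, zpow_mul, zpow_natCast, h4,
      one_zpow]⟩
  obtain ⟨l, hl, hlT⟩ := JComp.exists_conj_le L.syl hpg (zpowers_le.mpr hw'P)
  have hsq' := hsq _ (hlT ⟨g⁻¹ * w * g, mem_zpowers _, rfl⟩)
  have e2 : (MulAut.conj l).toMonoidHom (g⁻¹ * w * g) * (MulAut.conj l).toMonoidHom (g⁻¹ * w * g) =
      l * g⁻¹ * z * (l * g⁻¹)⁻¹ := by
    rw [← hwz]
    show l * (g⁻¹ * w * g) * l⁻¹ * (l * (g⁻¹ * w * g) * l⁻¹) = _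
    group
  rw [e2] at hsq'
  have hnz : l * g⁻¹ * z * (l * g⁻¹)⁻¹ = z := hsq'.resolve_left fun e => hz1 (conj_eq_one_iff.mp e)
  -- so `l * g⁻¹` normalizes `S`
  have hn : l * g⁻¹ ∈ normalizer ((S : Subgroup G) : Set G) := by
    refine hZ (mem_centralizer_iff.mpr ?_)
    rintro s ⟨hs, hs2, hsc⟩
    have hs2' : s * s = 1 := by rw [← pow_two]; exact hs2
    have hsT : s ∈ T := L.mem_T S hTS hs
      (L.centralizer_c.le (mem_centralizer_singleton_iff.mpr (hsc L.c (hTS (L.loc.A_le_T hcI.1))).symm))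
    have hsA : ∀ {A : Subgroup G}, A ≤ T → ∀ a ∈ A, s * a = a * s := fun hA a ha => (hsc a (hTS (hA ha))).symm
    have hsy : y * s * y⁻¹ = s := by rw [hsc y hy, mul_inv_cancel_right]
    rcases L.fixed_inter M hne S hTS hy hyT hzL hzM hz1 hyz (L.loc.cent_A hsT (hsA L.loc.A_le_T))
      (M.loc.cent_A hsT (hsA M.loc.A_le_T)) hsy with rfl | rfl
    · rw [one_mul, mul_one]
    · exact (mul_inv_eq_iff_eq_mul.mp hnz).symm
  have hnT := L.normalizer_S_le M hne S hTS hn
  refine hyT ((mem_normalizer_iff.mp hnT y).mpr ?_)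
  have : l * g⁻¹ * y * (l * g⁻¹)⁻¹ = L.c := by
    rw [show l * g⁻¹ * y * (l * g⁻¹)⁻¹ = l * (g⁻¹ * y * g) * l⁻¹ by group, ← hg,
      show g⁻¹ * (g * L.c * g⁻¹) * g = L.c by group, L.c_comm hl, mul_inv_cancel_right]
  rw [this]
  exact L.loc.A_le_T hcI.1

/-- The central involution is outside the subgroup generated by the elements of odd order. -/
theorem c_not_mem (hZ : ∀ S : Sylow 2 G,
    centralizer {w : G | w ∈ (S : Subgroup G) ∧ w ^ 2 = 1 ∧ ∀ s ∈ (S : Subgroup G), s * w = w * s} ≤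
      normalizer ((S : Subgroup G) : Set G)) :
    L.c ∉ closure {g : G | Odd (orderOf g)} := by
  haveI : Fact (Nat.Prime 2) := ⟨Nat.prime_two⟩
  obtain ⟨S, hTS⟩ := L.syl.2.1.exists_le_sylow
  obtain ⟨hD8, hcD⟩ := L.card_D M hne
  set D := L.B ⊔ M.B with hD
  have hDT : D ≤ T := sup_le L.B_le M.B_le
  have hDS : D ≤ (S : Subgroup G) := hDT.trans hTS
  -- `D` is normal in `S`
  have hconj : ∀ g ∈ (S : Subgroup G), ∀ x ∈ D, g * x * g⁻¹ ∈ D := by
    intro g hg
    have h : D.map (MulAut.conj g).toMonoidHom ≤ D := by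
      rw [hD, Subgroup.map_sup, sup_le_iff]
      by_cases hgT : g ∈ T
      · constructor
        · rintro _ ⟨x, hx, rfl⟩; exact mem_sup_left (L.B_conj (L.syl.1 hgT) hx)
        · rintro _ ⟨x, hx, rfl⟩; exact mem_sup_right (M.B_conj (M.syl.1 hgT) hx)
      · have hgN := L.le_normalizer_T M hne S hTS hg
        constructor
        · rintro _ ⟨x, hx, rfl⟩; exact mem_sup_right (L.conj_B M hne S hTS hg hgN hgT hx)
        · rintro _ ⟨x, hx, rfl⟩; exact mem_sup_left (M.conj_B L hne.symm S hTS hg hgN hgT hx)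
    exact fun x hx => h ⟨x, hx, rfl⟩
  haveI hn : (D.subgroupOf (S : Subgroup G)).Normal := ⟨fun x hx g => hconj g g.2 x hx⟩
  -- the quotient has order at most four
  have hS : Nat.card (S : Subgroup G) ≤ 32 := by
    rw [show (32 : ℕ) = 2 * 16 from rfl, ← L.card_T]
    by_cases hST : (S : Subgroup G) ≤ T
    · exact (card_le_of_le hST).trans (by omega)
    obtain ⟨x, hx, hxT⟩ := SetLike.not_le_iff_exists.mp hST
    have hsub : ((S : Subgroup G) : Set G) ⊆ (T : Set G) ∪ (fun t => x⁻¹ * t) '' (T : Set G) := fun g hg => by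
      by_cases hgT : g ∈ T
      · exact Or.inl hgT
      refine Or.inr ⟨x * g, L.mem_T S hTS (mul_mem hx hg) ?_, by simp⟩
      rw [← L.loc.normalizer_A]
      refine Local.mem_normalizer_of_map_conj_eq ?_
      rw [← JComp.conj_map_map, L.swap M hne S hTS hg (L.le_normalizer_T M hne S hTS hg) hgT,
        M.swap L hne.symm S hTS hx (L.le_normalizer_T M hne S hTS hx) hxT]
    have h4 := ((Set.ncard_le_ncard hsub (Set.toFinite _)).trans (Set.ncard_union_le _ _)).trans
      (Nat.add_le_add_left (Set.ncard_image_le (Set.toFinite _)) _)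
    rw [← Nat.card_coe_set_eq, ← Nat.card_coe_set_eq] at h4
    change Nat.card ↥(S : Subgroup G) ≤ Nat.card ↥T + Nat.card ↥T at h4
    omega
  set X := ↥(S : Subgroup G) ⧸ D.subgroupOf (S : Subgroup G)
  have hX : Nat.card X ≤ 4 := by
    have h := card_mul_index (D.subgroupOf (S : Subgroup G))
    rw [JComp.card_subgroupOf_le hDS, hD8, index_eq_card] at h
    change 8 * Nat.card X = _ at h
    omega
  have hXp : IsPGroup 2 X := S.isPGroup'.to_quotient _
  letI : CommGroup X := { (inferInstance : Group X) with mul_comm := commutative_of_card_le_four hXp hX }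
  refine not_mem_of_transfer S hXp (QuotientGroup.mk' _) L.c_sq
    (QuotientGroup.mk' _ ⟨L.c, hTS (L.loc.A_le_T L.c_mem_A)⟩) ?_ ?_ ?_
  · rw [← map_mul, show (⟨L.c, _⟩ : (S : Subgroup G)) * ⟨L.c, _⟩ = 1 from Subtype.ext L.c_sq, map_one]
  · intro e
    have h : (⟨L.c, hTS (L.loc.A_le_T L.c_mem_A)⟩ : (S : Subgroup G)) ∈ D.subgroupOf (S : Subgroup G) :=
      (QuotientGroup.eq_one_iff _).mp e
    exact hcD h
  intro y hy
  have hyT := L.conj_c_mem_T M hne S hTS (hZ S) y.2 hy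
  have hyD : (y : G) ∉ D := fun h => L.isConj_c_not_B M h hne hy
  have hidx : (D.subgroupOf T).index = 2 := by
    have h := card_mul_index (D.subgroupOf T)
    rw [JComp.card_subgroupOf_le hDT, hD8, L.card_T] at h
    omega
  have hprod : (y : G) * L.c ∈ D := by
    have h := (Subgroup.mul_mem_iff_of_index_two hidx (a := ⟨y, hyT⟩) (b := ⟨L.c, L.loc.A_le_T L.c_mem_A⟩)).mpr
      (iff_of_false hyD hcD)
    exact h
  show (QuotientGroup.mk y : X) = QuotientGroup.mk _
  rw [QuotientGroup.eq, mem_subgroupOf]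
  show (y : G)⁻¹ * L.c ∈ D
  have := hconj _ (S : Subgroup G).one_mem _ hprod
  have h2 : (y : G) * (y : G) = 1 := by
    obtain ⟨g, hg⟩ := isConj_iff.mp hy
    rw [← hg, show g * L.c * g⁻¹ * (g * L.c * g⁻¹) = g * (L.c * L.c) * g⁻¹ by group, L.c_sq]
    group
  rwa [inv_eq_of_mul_eq_one_left h2]

end Loc2

end CfsgLib.ZNStructure
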