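import Cfsg.Agent.Lib.ZNStructure.Excl

/-!
The two maximal `2`-locals of shape `S₄` in the subgroup generated by the elements of odd order.
-/

set_option autoImplicit false
set_option linter.unusedSectionVars false
set_option linter.style.haveILetI false

universe u

namespace CfsgLib.ZNStructure

open Cfsg Subgroup

variable {G : Type u} [Group G] [Finite G] (H : Subgroup G) [hHn : H.Normal]

namespace Loc

variable {T P : Subgroup G} (L : Loc T P)

/-- The trace of a local on `H`, mapped onto `S₄`. -/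
def res : ↥(P.subgroupOf H) →* Equiv.Perm (Fin 4) :=
  L.π.comp ((H.subtype.comp (P.subgroupOf H).subtype).codRestrict P fun x => x.2)

variable {H} in
theorem res_apply (x : ↥(P.subgroupOf H)) : L.res H x = L.π ⟨((x : ↥H) : G), x.2⟩ := rfl

variable (hker : ∀ x ∈ L.K, x ∈ H → x = 1)
include hker

theorem res_injective : Function.Injective (L.res H) := (injective_iff_map_eq_one _).mpr fun x hx =>
  Subtype.ext (Subtype.ext (hker _ (L.mem_K.mpr ⟨x.2, hx⟩) (x : ↥H).2))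

variable (hod : od P ≤ H) {v : G} (hvT : v ∈ T) (hvH : v ∈ H) (hvA : v ∉ L.A)
include hod hvT hvH hvA

theorem res_surjective : Function.Surjective (L.res H) := by
  refine MonoidHom.range_eq_top.mp (eq_top_of_three (fun a ha => ?_) (τ := L.π ⟨v, L.syl.1 hvT⟩) ?_ fun hs => ?_)
  · obtain ⟨x, hx, hxP, ex⟩ := L.exists_lift ha
    exact ⟨⟨⟨x, hod hx⟩, hxP⟩, ex⟩
  · exact ⟨⟨⟨v, hvH⟩, L.syl.1 hvT⟩, rfl⟩
  · exact hvA (L.mem_A.mpr ⟨_, mem_klein.mpr ⟨pow_four_even _ (L.pow_four hvT) hs, hs⟩⟩)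

theorem nonempty_iso : Nonempty (↥(P.subgroupOf H) ≃* Equiv.Perm (Fin 4)) :=
  ⟨MulEquiv.ofBijective (L.res H) ⟨L.res_injective H hker, L.res_surjective H hker hod hvT hvH hvA⟩⟩

theorem card_res : Nat.card ↥(P.subgroupOf H) = 24 := by
  rw [Nat.card_congr (L.nonempty_iso H hker hod hvT hvH hvA).some.toEquiv, Nat.card_perm, Nat.card_fin]
  rfl

theorem card_T_inf : Nat.card ↥(T ⊓ H) = 8 := by
  haveI : Fact (Nat.Prime 2) := ⟨Nat.prime_two⟩
  obtain ⟨k, hk⟩ := IsPGroup.iff_card.mp (L.syl.2.1.to_le (inf_le_left : T ⊓ H ≤ T))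
  set Y := (T ⊓ H).subgroupOf H with hY
  have hYle : Y ≤ P.subgroupOf H := fun x hx => L.syl.1 hx.1
  have hcY : Nat.card Y = 2 ^ k := by rw [hY, JComp.card_subgroupOf_le inf_le_right, hk]
  have hd : 2 ^ k ∣ 24 := by
    rw [← hcY, ← L.card_res H hker hod hvT hvH hvA]
    exact card_dvd_of_le hYle
  have hgt : 4 < 2 ^ k := by
    rw [← hk]
    have hsub : Set.range (fun w : klein => Classical.choose (L.exists_klein_lift w.2)) ⊆
        ((T ⊓ H : Subgroup G) : Set G) := by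
      rintro _ ⟨w, rfl⟩
      obtain ⟨h1, h2, -⟩ := Classical.choose_spec (L.exists_klein_lift w.2)
      exact ⟨L.A_le_T h2, hod h1⟩
    have hinj : Function.Injective (fun w : klein => Classical.choose (L.exists_klein_lift w.2)) := by
      intro a b hab
      obtain ⟨-, -, ha, ea⟩ := Classical.choose_spec (L.exists_klein_lift a.2)
      obtain ⟨-, -, hb, eb⟩ := Classical.choose_spec (L.exists_klein_lift b.2)
      refine Subtype.ext (ea.symm.trans ((congrArg L.π ?_).trans eb))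
      exact Subtype.ext hab
    have hv' : v ∉ Set.range (fun w : klein => Classical.choose (L.exists_klein_lift w.2)) := by
      rintro ⟨w, rfl⟩
      exact hvA (Classical.choose_spec (L.exists_klein_lift w.2)).2.1
    have h := Set.ncard_le_ncard (Set.insert_subset (show v ∈ ((T ⊓ H : Subgroup G) : Set G) from ⟨hvT, hvH⟩) hsub)
      (Set.toFinite _)
    rw [Set.ncard_insert_of_notMem hv', Set.ncard_range_of_injective hinj, card_klein, ← Nat.card_coe_set_eq] at h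
    change 4 + 1 ≤ Nat.card ↥(T ⊓ H) at h
    omega
  rw [hk]
  have hk5 : k < 5 := by
    by_contra hc
    have := Nat.le_of_dvd (by norm_num) hd
    have : 2 ^ 5 ≤ 2 ^ k := Nat.pow_le_pow_right two_pos (by omega)
    omega
  interval_cases k
  all_goals first
    | rfl
    | omega

theorem le_A_of_normal {X : Subgroup G} (hXP : X ≤ P) (hXH : X ≤ H) (hX : IsPGroup 2 ↥X)
    (hn : ∀ g ∈ P, g ∈ H → ∀ x ∈ X, g * x * g⁻¹ ∈ X) : X ≤ L.A := by
  intro x hx
  refine L.mem_A.mpr ⟨hXP hx, ?_⟩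
  by_contra hk
  obtain ⟨γ, hγ⟩ := no_normal_two _ (fun h => hk (mem_klein.mpr h))
  obtain ⟨g, hg⟩ := L.res_surjective H hker hod hvT hvH hvA γ
  have hy := mul_mem hx (hn _ g.2 (g : ↥H).2 x hx)
  obtain ⟨n, hn'⟩ := hX ⟨_, hy⟩
  refine hγ (pow_eight_of_two_power _ (n := n) ?_)
  rw [← hg, res_apply, ← map_inv, ← map_mul, ← map_mul, ← map_mul, ← map_pow]
  rw [← map_one L.π]
  exact congrArg L.π (Subtype.ext (congrArg Subtype.val hn' :))

theorem maximal : IsMaximalTwoLocal (P.subgroupOf H) := by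
  haveI : Fact (Nat.Prime 2) := ⟨Nat.prime_two⟩
  set A' := L.A ⊓ H with hA'
  have hA'p : IsPGroup 2 ↥A' := L.A_pgroup.to_le inf_le_left
  have hA'ne : A' ≠ ⊥ := fun e => by
    obtain ⟨w, hw, hw1⟩ : ∃ w ∈ klein, w ≠ 1 := by
      by_contra h
      push Not at h
      have := card_klein
      rw [(eq_bot_iff_forall _).mpr h, card_bot] at this
      omega
    obtain ⟨x, hxO, hxA, hxP, ex⟩ := L.exists_klein_lift hw
    have hx1 : x = 1 := mem_bot.mp (e ▸ ⟨hxA, hod hxO⟩ : x ∈ (⊥ : Subgroup G))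
    subst hx1
    exact hw1 (ex ▸ map_one L.π)
  have hPn : P ≤ normalizer (A' : Set G) := fun g hg => JComp.mem_normalizer_of_conj_mem fun a ha =>
    ⟨L.A_conj hg ha.1, hHn.conj_mem a ha.2 g⟩
  have hNA : normalizer (A' : Set G) = P := L.max.2 _ (JComp.isTwoLocal_normalizer hA'p hA'ne) hPn
  set B := A'.subgroupOf H with hB
  have hBp : IsPGroup 2 ↥B := hA'p.comap_of_injective H.subtype H.subtype_injective
  have hBne : B ≠ ⊥ := fun e => hA'ne (by
    rw [← map_subgroupOf_eq_of_le (show A' ≤ H from inf_le_right), ← hB, e, Subgroup.map_bot])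
  have hNB : normalizer (B : Set ↥H) = P.subgroupOf H := by
    refine le_antisymm (fun g hg => ?_) fun g hg => ?_
    · show (g : G) ∈ P
      rw [← hNA]
      exact JComp.mem_normalizer_of_conj_mem fun a ha =>
        (mem_normalizer_iff.mp hg ⟨a, ha.2⟩).mp (show a ∈ A' from ha)
    · exact JComp.mem_normalizer_of_conj_mem fun a ha => (mem_normalizer_iff.mp (hPn hg) (a : G)).mp ha
  refine ⟨⟨B, hBp, hBne, hNB.symm⟩, ?_⟩
  rintro N ⟨Q, hQ, hQne, rfl⟩ hle
  set Q' := Q.map H.subtype with hQ'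
  have hQ'H : Q' ≤ H := map_subtype_le _
  have hnQ : ∀ g ∈ P, g ∈ H → ∀ x ∈ Q', g * x * g⁻¹ ∈ Q' := by
    rintro g hg hgH _ ⟨x, hx, rfl⟩
    exact ⟨⟨g, hgH⟩ * x * ⟨g, hgH⟩⁻¹, (mem_normalizer_iff.mp (hle (show (⟨g, hgH⟩ : ↥H) ∈ P.subgroupOf H from hg)) x).mp hx, rfl⟩
  have hA'Q : A' ≤ normalizer (Q' : Set G) := fun a ha =>
    JComp.mem_normalizer_of_conj_mem (hnQ a (L.A_le ha.1) ha.2)
  have hR : IsPGroup 2 ↥(Q' ⊔ A') := (hQ.map _).to_sup_of_normal_left' hA'p hA'Q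
  have hQA : Q' ≤ A' := by
    by_contra hc
    have hlt : A' < Q' ⊔ A' := lt_of_le_of_ne le_sup_right fun e => hc (le_sup_left.trans e.ge)
    have h := JComp.exists_normalizer_gt hR hlt
    rw [hNA] at h
    refine h.2 (le_inf (L.le_A_of_normal H hker hod hvT hvH hvA inf_le_right
      (inf_le_left.trans (sup_le hQ'H inf_le_right)) (hR.to_le inf_le_left) fun g hg hgH x hx =>
        ⟨?_, mul_mem (mul_mem hg hx.2) (P.inv_mem hg)⟩) (inf_le_left.trans (sup_le hQ'H inf_le_right)))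
    have hmap : (Q' ⊔ A').map (MulAut.conj g).toMonoidHom ≤ Q' ⊔ A' := by
      rw [Subgroup.map_sup, sup_le_iff]
      constructor
      · rintro _ ⟨y, hy, rfl⟩; exact mem_sup_left (hnQ g hg hgH y hy)
      · rintro _ ⟨y, hy, rfl⟩; exact mem_sup_right ((mem_normalizer_iff.mp (hPn hg) y).mp hy)
    exact hmap ⟨x, hx.1, rfl⟩
  obtain ⟨q, hq, hq1⟩ : ∃ q ∈ Q', q ≠ 1 := by
    by_contra h
    push Not at h
    exact hQne ((Subgroup.map_eq_bot_iff_of_injective _ H.subtype_injective).mp ((eq_bot_iff_forall _).mpr h))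
  have hAQ : A' ≤ Q' := by
    intro a ha
    by_cases ha1 : a = 1
    · subst ha1; exact one_mem _
    obtain ⟨hqP, hqk⟩ := L.mem_A.mp (hQA hq).1
    obtain ⟨haP, hak⟩ := L.mem_A.mp ha.1
    have hne : ∀ {w : G} (hwP : w ∈ P), w ∈ H → w ≠ 1 → L.π ⟨w, hwP⟩ ≠ 1 := fun hwP hwH h1 e =>
      h1 (hker _ (L.mem_K.mpr ⟨hwP, e⟩) hwH)
    obtain ⟨γ, hγ⟩ := klein_conj _ _ (mem_klein.mp hqk) (hne hqP (hQ'H hq) hq1) (mem_klein.mp hak) (hne haP ha.2 ha1)
    obtain ⟨g, hg⟩ := L.res_surjective H hker hod hvT hvH hvA γ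
    have e : g * (⟨⟨q, hQ'H hq⟩, hqP⟩ : ↥(P.subgroupOf H)) * g⁻¹ = ⟨⟨a, ha.2⟩, haP⟩ := L.res_injective H hker (by
      rw [map_mul, map_mul, map_inv, hg, res_apply, res_apply]
      exact hγ)
    rw [← show ((g : ↥H) : G) * q * ((g : ↥H) : G)⁻¹ = a from
      congrArg (fun z : ↥(P.subgroupOf H) => ((z : ↥H) : G)) e]
    exact hnQ _ g.2 (g : ↥H).2 q hq
  have hQB : Q = B := by
    rw [hB, ← le_antisymm hQA hAQ, hQ', subgroupOf, comap_map_eq_self_of_injective H.subtype_injective]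
  rw [hQB, hNB]

end Loc

/-- The conclusion from two locals whose kernels avoid `H`. -/
theorem finish {T P Q : Subgroup G} (L : Loc T P) (M : Loc T Q) (hne : P ≠ Q) (hP : od P ≤ H) (hQ : od Q ≤ H)
    (hL : ∀ x ∈ L.K, x ∈ H → x = 1) (hM : ∀ x ∈ M.K, x ∈ H → x = 1) :
    ∃ M₁ M₂ : Subgroup H, M₁ ≠ M₂ ∧ IsMaximalTwoLocal M₁ ∧ IsMaximalTwoLocal M₂ ∧
      Nonempty (M₁ ≃* Equiv.Perm (Fin 4)) ∧ Nonempty (M₂ ≃* Equiv.Perm (Fin 4)) ∧ Nat.card ↥(M₁ ⊓ M₂) = 8 := by
  obtain ⟨v, hvO, hvM, hvL⟩ := L.exists_cross M hne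
  obtain ⟨u, huO, huL, huM⟩ := M.exists_cross L hne.symm
  have hvT := M.A_le_T hvM
  have huT := L.A_le_T huL
  have hne' : P.subgroupOf H ≠ Q.subgroupOf H := by
    intro e
    have hXQ : L.A ⊓ H ≤ Q := fun x hx => by
      have : (⟨x, hx.2⟩ : ↥H) ∈ Q.subgroupOf H := e ▸ L.A_le hx.1
      exact this
    have hle : L.A ⊓ H ≤ M.A := M.le_A_of_normal H hM hQ huT (hP huO) huM hXQ inf_le_right
      (L.A_pgroup.to_le inf_le_left) fun g hg hgH x hx => ⟨L.A_conj (by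
        have : (⟨g, hgH⟩ : ↥H) ∈ P.subgroupOf H := e.symm ▸ hg
        exact this) hx.1, hHn.conj_mem x hx.2 g⟩
    exact huM (hle ⟨huL, hP huO⟩)
  refine ⟨_, _, hne', L.maximal H hL hP hvT (hQ hvO) hvL, M.maximal H hM hQ huT (hP huO) huM,
    L.nonempty_iso H hL hP hvT (hQ hvO) hvL, M.nonempty_iso H hM hQ huT (hP huO) huM, ?_⟩
  set I := P.subgroupOf H ⊓ Q.subgroupOf H with hI
  have hT : (T ⊓ H).subgroupOf H ≤ I := fun x hx => ⟨L.syl.1 hx.1, M.syl.1 hx.1⟩
  have h8 : Nat.card ↥((T ⊓ H).subgroupOf H) = 8 := by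
    rw [JComp.card_subgroupOf_le inf_le_right, L.card_T_inf H hL hP hvT (hQ hvO) hvL]
  have hd1 := card_dvd_of_le hT
  have hd2 := card_dvd_of_le (inf_le_left : I ≤ P.subgroupOf H)
  rw [h8] at hd1
  rw [L.card_res H hL hP hvT (hQ hvO) hvL] at hd2
  have hlt : Nat.card I ≠ 24 := fun e => hne' (by
    have e1 : I = P.subgroupOf H := eq_of_le_of_card_ge inf_le_left
      (by rw [e, L.card_res H hL hP hvT (hQ hvO) hvL])
    have e2 : I = Q.subgroupOf H := eq_of_le_of_card_ge inf_le_right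
      (by rw [e, M.card_res H hM hQ huT (hP huO) huM])
    exact e1.symm.trans e2)
  obtain ⟨k, hk⟩ := hd1
  have hk3 : k ∣ 3 := Nat.dvd_of_mul_dvd_mul_left (k := 8) (by norm_num) (hk ▸ hd2)
  rcases (Nat.dvd_prime Nat.prime_three).mp hk3 with rfl | rfl
  · exact hk.trans (mul_one 8)
  · exact absurd (hk.trans rfl) hlt

end CfsgLib.ZNStructure
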