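import Cfsg.Agent.Lib.ZNStructure.Model
import Cfsg.Agent.Lib.JComp.Straddle
import Cfsg.Agent.Lib.JComp.Para

/-!
Two maximal `2`-locals of shape `S₄` or `S₄ × C₂` on a common Sylow subgroup.
-/

set_option autoImplicit false
set_option linter.unusedSectionVars false
set_option linter.style.haveILetI false

universe u

namespace CfsgLib.ZNStructure

open Cfsg Subgroup

variable {G : Type u} [Group G] [Finite G]

/-- A maximal `2`-local mapping onto `S₄` with elementary abelian preimage of the four-group. -/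
structure Loc (T P : Subgroup G) where
  max : IsMaximalTwoLocal P
  syl : IsSylowTwoIn T P
  π : ↥P →* Equiv.Perm (Fin 4)
  surj : Function.Surjective π
  sq : ∀ x : ↥P, π x ∈ klein → x * x = 1

/-- The subgroup generated by the elements of `P` of order dividing three. -/
def od (P : Subgroup G) : Subgroup G := closure {a : G | a ∈ P ∧ a ^ 3 = 1}

theorem od_le (P : Subgroup G) : od P ≤ P := (closure_le P).mpr fun _ h => h.1

theorem od_le_closure_odd (P : Subgroup G) : od P ≤ closure {g : G | Odd (orderOf g)} :=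
  closure_mono fun a h => by
    rcases (Nat.dvd_prime Nat.prime_three).mp (orderOf_dvd_of_pow_eq_one h.2) with e | e
    · show Odd (orderOf a)
      rw [e]; decide
    · show Odd (orderOf a)
      rw [e]; decide

theorem od_conj {P : Subgroup G} {g x : G} (hx : x ∈ od P) :
    g * x * g⁻¹ ∈ od (P.map (MulAut.conj g).toMonoidHom) := by
  have h : (od P).map (MulAut.conj g).toMonoidHom ≤ od (P.map (MulAut.conj g).toMonoidHom) := by
    rw [od, MonoidHom.map_closure, closure_le]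
    rintro _ ⟨a, ⟨ha, ha3⟩, rfl⟩
    refine subset_closure ⟨⟨a, ha, rfl⟩, ?_⟩
    rw [← map_pow, ha3, map_one]
  exact h ⟨x, hx, rfl⟩

namespace Loc

variable {T P : Subgroup G} (L : Loc T P)

/-- The preimage of the four-group. -/
def A : Subgroup G := (klein.comap L.π).map P.subtype

/-- The kernel. -/
def K : Subgroup G := L.π.ker.map P.subtype

theorem mem_A {x : G} : x ∈ L.A ↔ ∃ h : x ∈ P, L.π ⟨x, h⟩ ∈ klein :=
  ⟨fun ⟨y, hy, e⟩ => e ▸ ⟨y.2, hy⟩, fun ⟨h, hx⟩ => ⟨⟨x, h⟩, hx, rfl⟩⟩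

theorem mem_K {x : G} : x ∈ L.K ↔ ∃ h : x ∈ P, L.π ⟨x, h⟩ = 1 :=
  ⟨fun ⟨y, hy, e⟩ => e ▸ ⟨y.2, hy⟩, fun ⟨h, hx⟩ => ⟨⟨x, h⟩, hx, rfl⟩⟩

theorem A_le : L.A ≤ P := map_subtype_le _

theorem A_sq {x : G} (hx : x ∈ L.A) : x * x = 1 := by
  obtain ⟨h, hk⟩ := L.mem_A.mp hx
  exact congrArg Subtype.val (L.sq ⟨x, h⟩ hk)

theorem A_comm {a b : G} (ha : a ∈ L.A) (hb : b ∈ L.A) : a * b = b * a := by
  calc a * b = (a * b)⁻¹ := eq_inv_of_mul_eq_one_left (L.A_sq (mul_mem ha hb))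
    _ = b * a := by
      rw [mul_inv_rev, inv_eq_of_mul_eq_one_left (L.A_sq hb), inv_eq_of_mul_eq_one_left (L.A_sq ha)]

theorem A_pgroup : IsPGroup 2 ↥L.A := fun x => ⟨1, by
  rw [pow_one, pow_two]; exact Subtype.ext (L.A_sq x.2)⟩

theorem A_conj {g a : G} (hg : g ∈ P) (ha : a ∈ L.A) : g * a * g⁻¹ ∈ L.A := by
  obtain ⟨h, hk⟩ := L.mem_A.mp ha
  refine L.mem_A.mpr ⟨mul_mem (mul_mem hg h) (inv_mem hg), ?_⟩
  rw [show (⟨g * a * g⁻¹, _⟩ : ↥P) = ⟨g, hg⟩ * ⟨a, h⟩ * ⟨g, hg⟩⁻¹ from rfl, map_mul, map_mul, map_inv]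
  exact Subgroup.Normal.conj_mem inferInstance _ hk _

theorem A_le_T : L.A ≤ T := by
  have hn : T ≤ normalizer (L.A : Set G) := fun g hg =>
    JComp.mem_normalizer_of_conj_mem fun a ha => L.A_conj (L.syl.1 hg) ha
  exact le_sup_left.trans (JComp.sylow_in_max L.syl (L.A_pgroup.to_sup_of_normal_left' L.syl.2.1 hn)
    le_sup_right (sup_le L.A_le L.syl.1))

theorem exists_lift {σ : Equiv.Perm (Fin 4)} (h3 : σ ^ 3 = 1) : ∃ x ∈ od P, ∃ h : x ∈ P, L.π ⟨x, h⟩ = σ := by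
  obtain ⟨x, hx⟩ := L.surj σ
  have h6 : x ^ 6 = 1 := by
    rw [show (6 : ℕ) = 3 + 3 from rfl, pow_add]
    refine L.sq (x ^ 3) ?_
    rw [map_pow, hx, h3]
    exact one_mem _
  have hp : L.π (x ^ 4) = σ := by rw [map_pow, hx, pow_succ, h3, one_mul]
  refine ⟨((x ^ 4 : ↥P) : G), subset_closure ⟨(x ^ 4).2, ?_⟩, (x ^ 4).2, hp⟩
  rw [← Subgroup.coe_pow, ← pow_mul, show 4 * 3 = 6 * 2 from rfl, pow_mul, h6, one_pow, Subgroup.coe_one]

theorem exists_klein_lift {v : Equiv.Perm (Fin 4)} (hv : v ∈ klein) :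
    ∃ x ∈ od P, x ∈ L.A ∧ ∃ h : x ∈ P, L.π ⟨x, h⟩ = v := by
  obtain ⟨a, b, ha, hb, e⟩ := klein_prod v (mem_klein.mp hv)
  obtain ⟨x, hx, hxP, ex⟩ := L.exists_lift ha
  obtain ⟨y, hy, hyP, ey⟩ := L.exists_lift hb
  have e' : L.π ⟨x * y, mul_mem hxP hyP⟩ = v := by
    rw [show (⟨x * y, _⟩ : ↥P) = ⟨x, hxP⟩ * ⟨y, hyP⟩ from rfl, map_mul, ex, ey, e]
  exact ⟨x * y, mul_mem hx hy, L.mem_A.mpr ⟨_, e' ▸ hv⟩, _, e'⟩

theorem A_ne_bot : L.A ≠ ⊥ := by
  intro e
  obtain ⟨v, hv, hv1⟩ : ∃ v ∈ klein, v ≠ 1 := by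
    by_contra h
    push Not at h
    have := card_klein
    rw [(eq_bot_iff_forall _).mpr h, card_bot] at this
    omega
  obtain ⟨x, -, hxA, h, ex⟩ := L.exists_klein_lift hv
  rw [e, mem_bot] at hxA
  subst hxA
  exact hv1 (ex ▸ map_one L.π)

theorem le_normalizer_A : P ≤ normalizer (L.A : Set G) := fun g hg =>
  JComp.mem_normalizer_of_conj_mem fun a ha => L.A_conj hg ha

theorem normalizer_A : normalizer (L.A : Set G) = P :=
  L.max.2 _ (JComp.isTwoLocal_normalizer L.A_pgroup L.A_ne_bot) L.le_normalizer_A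

theorem card_P : Nat.card P = 24 * Nat.card L.K := by
  rw [K, card_map_of_injective P.subtype_injective, mul_comm, ← card_mul_index L.π.ker, index_ker,
    MonoidHom.range_eq_top.mpr L.surj, card_top, Nat.card_perm, Nat.card_fin]
  rfl

theorem card_A : Nat.card L.A = 4 * Nat.card L.K := by
  have h1 := card_mul_index (klein.comap L.π)
  have h2 := card_mul_index klein
  rw [Nat.card_perm, Nat.card_fin, card_klein, show Nat.factorial 4 = 24 from rfl] at h2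
  rw [index_comap_of_surjective _ L.surj, show klein.index = 6 by omega, L.card_P] at h1
  rw [A, card_map_of_injective P.subtype_injective]
  omega

theorem K_le_A : L.K ≤ L.A := map_mono fun x hx => by
  show L.π x ∈ klein
  rw [MonoidHom.mem_ker.mp hx]
  exact one_mem _

theorem card_T : Nat.card T = 2 * Nat.card L.A := by
  haveI : Fact (Nat.Prime 2) := ⟨Nat.prime_two⟩
  rw [L.card_A, ← mul_assoc]
  obtain ⟨a, ha⟩ := IsPGroup.iff_card.mp L.syl.2.1
  obtain ⟨b, hb⟩ := IsPGroup.iff_card.mp (L.A_pgroup.to_le L.K_le_A)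
  have h := card_mul_index (T.subgroupOf P)
  rw [JComp.card_subgroupOf_le L.syl.1, L.card_P] at h
  have hodd : Odd (T.subgroupOf P).index := L.syl.2.2
  rw [ha, hb] at h ⊢
  refine Nat.dvd_antisymm ?_ ?_
  · have hd : 2 ^ a ∣ 3 * (2 * 4 * 2 ^ b) := ⟨_, by rw [h]; ring⟩
    exact ((Nat.Coprime.pow_left a (by norm_num : Nat.Coprime 2 3))).dvd_of_dvd_mul_left hd
  · have hd : 2 * 4 * 2 ^ b ∣ (T.subgroupOf P).index * 2 ^ a := ⟨3, by rw [mul_comm, h]; ring⟩
    refine Nat.Coprime.dvd_of_dvd_mul_left ?_ hd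
    rw [show 2 * 4 * 2 ^ b = 2 ^ (b + 3) by ring]
    exact (Nat.coprime_two_left.mpr hodd).pow_left _

theorem pow_four {t : G} (ht : t ∈ T) : L.π ⟨t, L.syl.1 ht⟩ ^ 4 = 1 := by
  obtain ⟨n, hn⟩ := L.syl.2.1 ⟨t, ht⟩
  refine pow_four_of_pow _ (pow_eight_of_two_power _ (n := n) ?_)
  rw [← map_pow, show (⟨t, L.syl.1 ht⟩ : ↥P) ^ 2 ^ n = 1 from
    Subtype.ext (congrArg Subtype.val hn : t ^ 2 ^ n = 1), map_one]

theorem cent_A {t : G} (ht : t ∈ T) (h : ∀ a ∈ L.A, t * a = a * t) : t ∈ L.A := by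
  by_contra hA
  obtain ⟨v, hv, hne⟩ := moves _ (L.pow_four ht) fun hk => hA (L.mem_A.mpr ⟨_, hk⟩)
  obtain ⟨x, -, hxA, hxP, ex⟩ := L.exists_klein_lift (mem_klein.mpr hv)
  refine hne ?_
  rw [← ex, ← map_mul, ← map_mul]
  exact congrArg L.π (Subtype.ext (h x hxA))

theorem exists_noncentral : ∃ v ∈ od P, v ∈ L.A ∧ ∃ t ∈ T, t * v ≠ v * t := by
  obtain ⟨t, ht, htA⟩ : ∃ t ∈ T, t ∉ L.A := by
    by_contra h
    push Not at h
    have := card_le_of_le h
    have := L.card_T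
    have := Nat.card_pos (α := L.A)
    omega
  obtain ⟨v, hv, hne⟩ := moves _ (L.pow_four ht) fun hk => htA (L.mem_A.mpr ⟨_, hk⟩)
  obtain ⟨x, hxO, hxA, hxP, ex⟩ := L.exists_klein_lift (mem_klein.mpr hv)
  refine ⟨x, hxO, hxA, t, ht, fun e => hne ?_⟩
  rw [← ex, ← map_mul, ← map_mul]
  exact congrArg L.π (Subtype.ext e)

/-! ### Two of them -/

variable {Q : Subgroup G} (M : Loc T Q)

theorem A_ne (hne : P ≠ Q) : L.A ≠ M.A := fun e => hne (by rw [← L.normalizer_A, ← M.normalizer_A, e])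

theorem card_A_eq : Nat.card L.A = Nat.card M.A := by
  have := L.card_T
  have := M.card_T
  omega

theorem sup_eq (hne : P ≠ Q) : L.A ⊔ M.A = T := by
  have hle : L.A ⊔ M.A ≤ T := sup_le L.A_le_T M.A_le_T
  refine eq_of_le_of_card_ge hle ?_
  obtain ⟨k, hk⟩ := card_dvd_of_le (le_sup_left : L.A ≤ L.A ⊔ M.A)
  have hk1 : k ≠ 1 := fun e => L.A_ne M hne (by
    have h1 : L.A = L.A ⊔ M.A := eq_of_le_of_card_ge le_sup_left (by rw [hk, e, mul_one])
    exact (eq_of_le_of_card_ge (le_sup_right.trans h1.ge) (L.card_A_eq M).le).symm)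
  have hk0 : k ≠ 0 := fun e => by
    rw [e, mul_zero] at hk
    exact Nat.card_pos.ne' hk
  rw [hk, L.card_T, mul_comm 2]
  exact Nat.mul_le_mul_left _ (by omega)

theorem inf_central (hne : P ≠ Q) {x : G} (hxL : x ∈ L.A) (hxM : x ∈ M.A) {t : G} (ht : t ∈ T) :
    t * x = x * t := by
  have h : T ≤ centralizer ({x} : Set G) := by
    rw [← L.sup_eq M hne]
    exact sup_le (fun a ha => mem_centralizer_singleton_iff.mpr (L.A_comm ha hxL))
      fun a ha => mem_centralizer_singleton_iff.mpr (M.A_comm ha hxM)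
  exact mem_centralizer_singleton_iff.mp (h ht)

theorem exists_cross (hne : P ≠ Q) : ∃ v ∈ od Q, v ∈ M.A ∧ v ∉ L.A := by
  obtain ⟨v, hvO, hvA, t, ht, htv⟩ := M.exists_noncentral
  exact ⟨v, hvO, hvA, fun h => htv (L.inf_central M hne h hvA ht)⟩

theorem mem_mul (hne : P ≠ Q) {t : G} (ht : t ∈ T) : ∃ a ∈ L.A, ∃ b ∈ M.A, t = a * b := by
  have h : t ∈ ((L.A ⊔ M.A : Subgroup G) : Set G) := (L.sup_eq M hne).ge ht
  rw [Subgroup.coe_mul_of_right_le_normalizer_left _ _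
    (M.A_le_T.trans (L.syl.1.trans L.le_normalizer_A))] at h
  obtain ⟨a, ha, b, hb, e⟩ := h
  exact ⟨a, ha, b, hb, e.symm⟩

theorem card_inf (hne : P ≠ Q) : 2 * Nat.card ↥(L.A ⊓ M.A) = Nat.card M.A := by
  have h := JComp.card_sup_mul_card_inf (A := L.A) (B := M.A) (L.A_le_T.trans (M.syl.1.trans M.le_normalizer_A))
  rw [L.sup_eq M hne, L.card_T] at h
  have := Nat.card_pos (α := L.A)
  nlinarith

theorem invol_mem (hne : P ≠ Q) {t : G} (ht : t ∈ T) (h2 : t * t = 1) : t ∈ L.A ∨ t ∈ M.A := by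
  obtain ⟨a, ha, b, hb, rfl⟩ := L.mem_mul M hne ht
  by_cases hbL : b ∈ L.A
  · exact Or.inl (mul_mem ha hbL)
  refine Or.inr (mul_mem ?_ hb)
  have hab : a * b = b * a := by
    calc a * b = (a * b)⁻¹ := eq_inv_of_mul_eq_one_left h2
      _ = b * a := by rw [mul_inv_rev, inv_eq_of_mul_eq_one_left (M.A_sq hb), inv_eq_of_mul_eq_one_left (L.A_sq ha)]
  refine M.cent_A (L.A_le_T ha) fun m hm => ?_
  set X := M.A ⊓ centralizer ({a} : Set G) with hX
  have hIX : L.A ⊓ M.A ≤ X := fun x hx => ⟨hx.2, mem_centralizer_singleton_iff.mpr (L.A_comm hx.1 ha)⟩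
  have hbX : b ∈ X := ⟨hb, mem_centralizer_singleton_iff.mpr hab.symm⟩
  have hXM : X = M.A := by
    refine eq_of_le_of_card_ge inf_le_left ?_
    obtain ⟨k, hk⟩ := card_dvd_of_le hIX
    have hk1 : k ≠ 1 := fun e => hbL (by
      have h' := eq_of_le_of_card_ge hIX (by rw [hk, e, mul_one])
      exact (h'.ge hbX).1)
    have hk0 : k ≠ 0 := fun e => by
      rw [e, mul_zero] at hk
      exact Nat.card_pos.ne' hk
    rw [← L.card_inf M hne, hk, mul_comm 2]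
    exact Nat.mul_le_mul_left _ (by omega)
  exact (mem_centralizer_singleton_iff.mp (hXM.ge hm).2).symm

end Loc

end CfsgLib.ZNStructure
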