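import Mathlib

/-!
Facts about `S₄` and its four-group, checked element by element.
-/

set_option autoImplicit false

namespace CfsgLib.ZNStructure

open Equiv

theorem klein_mul : ∀ a b : Perm (Fin 4), a * a = 1 ∧ Perm.sign a = 1 → b * b = 1 ∧ Perm.sign b = 1 →
    (a * b) * (a * b) = 1 ∧ a * b = b * a := by decide +kernel

/-- The normal four-group of `S₄`. -/
def klein : Subgroup (Perm (Fin 4)) where
  carrier := {σ | σ * σ = 1 ∧ Perm.sign σ = 1}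
  one_mem' := ⟨mul_one 1, map_one _⟩
  mul_mem' {a b} ha hb := ⟨(klein_mul a b ha hb).1, by rw [map_mul, ha.2, hb.2, mul_one]⟩
  inv_mem' {a} ha := by
    rw [inv_eq_of_mul_eq_one_right ha.1]
    exact ha

theorem mem_klein {σ : Perm (Fin 4)} : σ ∈ klein ↔ σ * σ = 1 ∧ Perm.sign σ = 1 := Iff.rfl

theorem card_klein : Nat.card klein = 4 := by
  rw [show Nat.card klein = Nat.card {σ : Perm (Fin 4) // σ * σ = 1 ∧ Perm.sign σ = 1} from rfl,
    Nat.card_eq_fintype_card]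
  decide +kernel

instance : klein.Normal := ⟨fun σ h g => ⟨by
  rw [show g * σ * g⁻¹ * (g * σ * g⁻¹) = g * (σ * σ) * g⁻¹ by group, h.1, mul_one, mul_inv_cancel],
  by rw [map_mul, map_mul, h.2, mul_one, map_inv, mul_inv_cancel]⟩⟩

theorem klein_comm {a b : Perm (Fin 4)} (ha : a ∈ klein) (hb : b ∈ klein) : a * b = b * a :=
  (klein_mul a b ha hb).2

theorem pow_four_even : ∀ σ : Perm (Fin 4), σ ^ 4 = 1 → Perm.sign σ = 1 → σ * σ = 1 := by decide +kernel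

theorem pow_four_of_pow : ∀ σ : Perm (Fin 4), σ ^ 8 = 1 → σ ^ 4 = 1 := by decide +kernel

theorem sq_mem : ∀ σ : Perm (Fin 4), σ ^ 4 = 1 →
    (σ * σ) * (σ * σ) = 1 ∧ Perm.sign (σ * σ) = 1 := by decide +kernel

theorem moves : ∀ σ : Perm (Fin 4), σ ^ 4 = 1 → ¬ (σ * σ = 1 ∧ Perm.sign σ = 1) →
    ∃ v : Perm (Fin 4), (v * v = 1 ∧ Perm.sign v = 1) ∧ σ * v ≠ v * σ := by decide +kernel

theorem klein_conj : ∀ v u : Perm (Fin 4), v * v = 1 ∧ Perm.sign v = 1 → v ≠ 1 → u * u = 1 ∧ Perm.sign u = 1 →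
    u ≠ 1 → ∃ g : Perm (Fin 4), g * v * g⁻¹ = u := by decide +kernel

theorem klein_prod : ∀ v : Perm (Fin 4), v * v = 1 ∧ Perm.sign v = 1 →
    ∃ a b : Perm (Fin 4), a ^ 3 = 1 ∧ b ^ 3 = 1 ∧ v = a * b := by decide +kernel

theorem even_prod : ∀ σ : Perm (Fin 4), Perm.sign σ = 1 →
    ∃ a b : Perm (Fin 4), a ^ 3 = 1 ∧ b ^ 3 = 1 ∧ σ = a * b := by decide +kernel

theorem no_normal_two : ∀ σ : Perm (Fin 4), ¬ (σ * σ = 1 ∧ Perm.sign σ = 1) →
    ∃ g : Perm (Fin 4), (σ * (g * σ * g⁻¹)) ^ 8 ≠ 1 := by decide +kernel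

theorem pow_eight_of_two_power (σ : Perm (Fin 4)) {n : ℕ} (h : σ ^ 2 ^ n = 1) : σ ^ 8 = 1 := by
  obtain ⟨k, -, hk⟩ := (Nat.dvd_prime_pow Nat.prime_two).mp (orderOf_dvd_of_pow_eq_one h)
  have h24 : orderOf σ ∣ 24 := by
    have := orderOf_dvd_natCard σ
    rwa [Nat.card_perm, Nat.card_fin] at this
  rw [hk] at h24
  have hk3 : k ≤ 3 := by
    by_contra hc
    have : 2 ^ 4 ∣ 24 := (pow_dvd_pow 2 (by omega)).trans h24
    omega
  exact orderOf_dvd_iff_pow_eq_one.mp (hk ▸ pow_dvd_pow 2 hk3)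

/-- A subgroup containing the elements of order three and an odd permutation is everything. -/
theorem eq_top_of_three {X : Subgroup (Perm (Fin 4))} (h3 : ∀ a : Perm (Fin 4), a ^ 3 = 1 → a ∈ X)
    {τ : Perm (Fin 4)} (hτ : τ ∈ X) (hodd : Perm.sign τ ≠ 1) : X = ⊤ := by
  have hev : ∀ σ, Perm.sign σ = 1 → σ ∈ X := fun σ hσ => by
    obtain ⟨a, b, ha, hb, rfl⟩ := even_prod σ hσ
    exact mul_mem (h3 a ha) (h3 b hb)
  refine eq_top_iff.mpr fun σ _ => ?_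
  by_cases hσ : Perm.sign σ = 1
  · exact hev σ hσ
  · have h := hev (σ * τ) (by
      rw [map_mul, (Int.units_eq_one_or _).resolve_left hσ, (Int.units_eq_one_or _).resolve_left hodd]
      decide)
    rw [← mul_inv_cancel_right σ τ]
    exact mul_mem h (inv_mem hτ)

end CfsgLib.ZNStructure
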