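import Cfsg.Agent.Lib.ZNStructure.Local
import Cfsg.Agent.Lib.JComp.Uniq
import Mathlib.GroupTheory.PGroup

/-!
In the shape `S₄ × C₂` the central involution of a local lies outside the subgroup generated by the odd elements.
-/

set_option autoImplicit false
set_option linter.unusedSectionVars false
set_option linter.style.haveILetI false

universe u

namespace CfsgLib.ZNStructure

open Cfsg Subgroup

variable {G : Type u} [Group G] [Finite G]

/-- Transfer: if all conjugates of an involution in a Sylow subgroup have the same nontrivial image in an abelian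
`2`-group then the involution is not a product of elements of odd order. -/
theorem not_mem_of_transfer (S : Sylow 2 G) {A : Type u} [CommGroup A] (hA : IsPGroup 2 A)
    (χ : (S : Subgroup G) →* A) {t : G} (ht : t * t = 1) (a : A) (ha : a * a = 1) (ha1 : a ≠ 1)
    (hS : ∀ y : (S : Subgroup G), IsConj t (y : G) → χ y = a) :
    t ∉ closure {g : G | Odd (orderOf g)} := by
  classical
  haveI : Fact (Nat.Prime 2) := ⟨Nat.prime_two⟩
  intro htH
  have hker : closure {g : G | Odd (orderOf g)} ≤ χ.transfer.ker := (closure_le _).mpr fun g hg => by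
    refine MonoidHom.mem_ker.mpr ?_
    obtain ⟨k, hk⟩ := hA (χ.transfer g)
    have hco : Nat.Coprime (orderOf g) (2 ^ k) := (Nat.coprime_two_right.mpr hg).pow_right k
    exact orderOf_eq_one_iff.mp (Nat.eq_one_of_dvd_coprimes hco (orderOf_map_dvd χ.transfer g)
      (orderOf_dvd_of_pow_eq_one hk))
  haveI := Fintype.ofFinite (Quotient (MulAction.orbitRel (Subgroup.zpowers t) (G ⧸ (S : Subgroup G))))
  have h1 : χ.transfer t = 1 := hker htH
  rw [MonoidHom.transfer_eq_prod_quotient_orbitRel_zpowers_quot] at h1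
  have hp : ∀ c : G ⧸ (S : Subgroup G),
      Function.minimalPeriod (t • ·) c = 1 ∨ Function.minimalPeriod (t • ·) c = 2 := fun c => by
    have h2 : Function.IsPeriodicPt (t • ·) 2 c := by
      show t • t • c = c
      rw [smul_smul, ht, one_smul]
    have := Nat.le_of_dvd two_pos h2.minimalPeriod_dvd
    have := h2.minimalPeriod_pos two_pos
    omega
  rw [Finset.prod_congr rfl (g := fun q => a ^ Function.minimalPeriod (t • ·) q.out) fun q _ => ?_,
    Finset.prod_pow_eq_pow_sum] at h1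
  swap
  · rcases hp q.out with e | e
    · conv_rhs => rw [e, pow_one]
      refine hS _ (isConj_iff.mpr ⟨q.out.out⁻¹, ?_⟩)
      show _ = q.out.out⁻¹ * t ^ Function.minimalPeriod (t • ·) q.out * q.out.out
      rw [e, pow_one, inv_inv]
    · conv_rhs => rw [e, sq, ha]
      convert map_one χ
      show q.out.out⁻¹ * t ^ Function.minimalPeriod (t • ·) q.out * q.out.out = 1
      rw [e, sq, ht, mul_one, inv_mul_cancel]
  rw [← Subgroup.index_eq_sum_minimalPeriod] at h1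
  obtain ⟨l, hl⟩ : Odd (S : Subgroup G).index := by
    rw [← Nat.not_even_iff_odd, even_iff_two_dvd]
    exact S.not_dvd_index
  rw [hl, pow_succ, pow_mul, sq, ha, one_pow, one_mul] at h1
  exact ha1 h1

abbrev CTwo := Multiplicative (ZMod 2)

theorem ctwo_cases : ∀ u : CTwo, u = 1 ∨ u = Multiplicative.ofAdd 1 := by decide

theorem ctwo_sq : ∀ u : CTwo, u * u = 1 := by decide

theorem ctwo_cube : ∀ u : CTwo, u ^ 3 = 1 → u = 1 := by decide

theorem units_cube : ∀ u : ℤˣ, u ^ 3 = 1 → u = 1 := by decide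

/-- A local of shape `S₄ × C₂`. -/
structure Loc2 (T P : Subgroup G) where
  max : IsMaximalTwoLocal P
  syl : IsSylowTwoIn T P
  e : ↥P ≃* Equiv.Perm (Fin 4) × CTwo

namespace Loc2

variable {T P : Subgroup G} (L : Loc2 T P)

/-- The map onto `S₄`. -/
def loc : Loc T P where
  max := L.max
  syl := L.syl
  π := (MonoidHom.fst _ _).comp L.e.toMonoidHom
  surj σ := ⟨L.e.symm (σ, 1), by simp⟩
  sq x hx := L.e.injective (by
    rw [map_mul, map_one]
    exact Prod.ext (mem_klein.mp hx).1 (ctwo_sq _))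

/-- The central involution. -/
def c : G := (L.e.symm (1, Multiplicative.ofAdd 1) : ↥P)

theorem c_mem : L.c ∈ P := SetLike.coe_mem _

theorem e_c (h : L.c ∈ P) : L.e ⟨L.c, h⟩ = (1, Multiplicative.ofAdd 1) := L.e.apply_symm_apply _

theorem c_ne : L.c ≠ 1 := fun h => by
  have := L.e_c (h ▸ one_mem P)
  rw [show (⟨L.c, h ▸ one_mem P⟩ : ↥P) = 1 from Subtype.ext h, map_one] at this
  exact absurd (congrArg Prod.snd this) (by decide)

theorem c_comm {x : G} (hx : x ∈ P) : x * L.c = L.c * x := by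
  have : (⟨x, hx⟩ : ↥P) * ⟨L.c, L.c_mem⟩ = ⟨L.c, L.c_mem⟩ * ⟨x, hx⟩ := L.e.injective (by
    rw [map_mul, map_mul, L.e_c]
    exact Prod.ext ((mul_one _).trans (one_mul _).symm) (mul_comm _ _))
  exact congrArg Subtype.val this

theorem c_mem_A : L.c ∈ L.loc.A := L.loc.mem_A.mpr ⟨L.c_mem, by
  show (L.e ⟨L.c, L.c_mem⟩).1 ∈ klein
  rw [L.e_c]
  exact one_mem _⟩

theorem c_sq : L.c * L.c = 1 := L.loc.A_sq L.c_mem_A

theorem centralizer_c : centralizer ({L.c} : Set G) = P := by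
  have hel : IsPGroup 2 ↥(zpowers L.c) := fun x => ⟨1, by
    obtain ⟨k, hk⟩ := mem_zpowers_iff.mp x.2
    refine Subtype.ext ?_
    show (x : G) ^ 2 ^ 1 = 1
    rw [← hk, pow_one, pow_two, ← (Commute.refl L.c).mul_zpow, L.c_sq, one_zpow]⟩
  have hne : zpowers L.c ≠ ⊥ := fun h => L.c_ne (zpowers_eq_bot.mp h)
  have h1 : centralizer ({L.c} : Set G) ≤ normalizer (zpowers L.c : Set G) := fun g hg =>
    JComp.mem_normalizer_of_conj_mem fun x hx => by
      obtain ⟨k, rfl⟩ := mem_zpowers_iff.mp hx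
      rw [← conj_zpow, mem_centralizer_singleton_iff.mp hg, mul_inv_cancel_right]
      exact zpow_mem (mem_zpowers _) _
  have h2 : P ≤ centralizer ({L.c} : Set G) := fun x hx => mem_centralizer_singleton_iff.mpr (L.c_comm hx)
  refine le_antisymm ?_ h2
  exact h1.trans (le_of_eq (L.max.2 _ (JComp.isTwoLocal_normalizer hel hne) (h2.trans h1)))

theorem card_K : Nat.card L.loc.K = 2 := by
  rw [Loc.K, card_map_of_injective P.subtype_injective]
  have hk : ∀ x, x ∈ L.loc.π.ker ↔ (L.e x).1 = 1 := fun x => Iff.rfl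
  rw [Nat.card_congr (Equiv.ofBijective (fun x : L.loc.π.ker => (L.e x.1).2) ⟨?_, ?_⟩ : L.loc.π.ker ≃ CTwo)]
  · rw [Nat.card_eq_fintype_card]; rfl
  · intro x y h
    exact Subtype.ext (L.e.injective (Prod.ext (((hk _).mp x.2).trans ((hk _).mp y.2).symm) h))
  · intro u
    exact ⟨⟨L.e.symm (1, u), (hk _).mpr (by simp)⟩, by simp⟩

theorem card_A : Nat.card L.loc.A = 8 := by rw [L.loc.card_A, L.card_K]

include L in
theorem card_T : Nat.card T = 16 := by rw [L.loc.card_T, L.card_A]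

theorem mem_od {x : G} : x ∈ od P ↔ ∃ h : x ∈ P, (L.e ⟨x, h⟩).2 = 1 ∧ Equiv.Perm.sign (L.e ⟨x, h⟩).1 = 1 := by
  constructor
  · intro hx
    refine closure_induction (p := fun y _ => ∃ h : y ∈ P, (L.e ⟨y, h⟩).2 = 1 ∧
      Equiv.Perm.sign (L.e ⟨y, h⟩).1 = 1) ?_ ?_ ?_ ?_ hx
    · rintro a ⟨ha, ha3⟩
      have h3 : L.e ⟨a, ha⟩ ^ 3 = 1 := by
        rw [← map_pow, show (⟨a, ha⟩ : ↥P) ^ 3 = 1 from Subtype.ext ha3, map_one]
      refine ⟨ha, ctwo_cube _ ?_, units_cube _ ?_⟩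
      · rw [← Prod.pow_snd, h3]; rfl
      · rw [← map_pow, ← Prod.pow_fst, h3]; exact map_one _
    · refine ⟨one_mem P, ?_⟩
      rw [show (⟨1, one_mem P⟩ : ↥P) = 1 from rfl, map_one]
      exact ⟨rfl, map_one _⟩
    · rintro a b - - ⟨ha, ha2, ha1⟩ ⟨hb, hb2, hb1⟩
      refine ⟨mul_mem ha hb, ?_⟩
      rw [show (⟨a * b, _⟩ : ↥P) = ⟨a, ha⟩ * ⟨b, hb⟩ from rfl, map_mul, Prod.snd_mul, Prod.fst_mul, map_mul,
        ha2, hb2, ha1, hb1]
      exact ⟨mul_one _, mul_one _⟩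
    · rintro a - ⟨ha, ha2, ha1⟩
      refine ⟨inv_mem ha, ?_⟩
      rw [show (⟨a⁻¹, _⟩ : ↥P) = ⟨a, ha⟩⁻¹ from rfl, map_inv, Prod.snd_inv, Prod.fst_inv, map_inv, ha2, ha1]
      exact ⟨inv_one, inv_one⟩
  · rintro ⟨h, h2, h1⟩
    obtain ⟨a, b, ha, hb, e⟩ := even_prod _ h1
    have hx : (⟨x, h⟩ : ↥P) = L.e.symm (a, 1) * L.e.symm (b, 1) := L.e.injective (by
      rw [map_mul, L.e.apply_symm_apply, L.e.apply_symm_apply]
      exact Prod.ext e (h2.trans (one_mul 1).symm))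
    rw [show x = ((⟨x, h⟩ : ↥P) : G) from rfl, hx]
    refine mul_mem (subset_closure ⟨SetLike.coe_mem _, ?_⟩) (subset_closure ⟨SetLike.coe_mem _, ?_⟩)
    · rw [← Subgroup.coe_pow, ← map_pow, show ((a, 1) : _ × CTwo) ^ 3 = 1 from Prod.ext ha (one_pow 3), map_one]
      rfl
    · rw [← Subgroup.coe_pow, ← map_pow, show ((b, 1) : _ × CTwo) ^ 3 = 1 from Prod.ext hb (one_pow 3), map_one]
      rfl

/-- The four-group of the derived subgroup. -/
def B : Subgroup G := L.loc.A ⊓ od P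

theorem c_not_od : L.c ∉ od P := fun h => by
  obtain ⟨h', h2, -⟩ := L.mem_od.mp h
  rw [L.e_c] at h2
  exact absurd h2 (by decide)

theorem card_B : Nat.card L.B = 4 := by
  rw [← card_klein]
  refine Nat.card_congr (Equiv.ofBijective
    (fun x : L.B => (⟨(L.e ⟨x.1, L.loc.A_le x.2.1⟩).1, (L.loc.mem_A.mp x.2.1).2⟩ : klein)) ⟨?_, ?_⟩)
  · intro x y h
    obtain ⟨hx, hx2, -⟩ := L.mem_od.mp x.2.2
    obtain ⟨hy, hy2, -⟩ := L.mem_od.mp y.2.2
    have he := L.e.injective (Prod.ext (congrArg Subtype.val h) (hx2.trans hy2.symm))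
    exact Subtype.ext (congrArg Subtype.val he :)
  · rintro ⟨v, hv⟩
    obtain ⟨x, hxO, hxA, hxP, ex⟩ := L.loc.exists_klein_lift hv
    exact ⟨⟨x, hxA, hxO⟩, Subtype.ext ex⟩

theorem B_le : L.B ≤ T := inf_le_left.trans L.loc.A_le_T

theorem B_conj {g x : G} (hg : g ∈ P) (hx : x ∈ L.B) : g * x * g⁻¹ ∈ L.B := by
  refine ⟨L.loc.A_conj hg hx.1, ?_⟩
  have h := od_conj (g := g) hx.2
  rwa [Local.map_conj_eq_of_mem_normalizer (le_normalizer hg)] at h

theorem sq_mem_B {t : G} (ht : t ∈ T) : t * t ∈ L.B := by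
  have htP := L.syl.1 ht
  have hs : (L.e ⟨t * t, mul_mem htP htP⟩) = L.e ⟨t, htP⟩ * L.e ⟨t, htP⟩ := map_mul L.e ⟨t, htP⟩ ⟨t, htP⟩
  refine ⟨L.loc.mem_A.mpr ⟨mul_mem htP htP, ?_⟩, L.mem_od.mpr ⟨mul_mem htP htP, ?_⟩⟩
  · show (L.e _).1 ∈ klein
    rw [hs, Prod.fst_mul]
    exact sq_mem _ (L.loc.pow_four ht)
  · rw [hs, Prod.snd_mul, Prod.fst_mul]
    exact ⟨ctwo_sq _, (sq_mem _ (L.loc.pow_four ht)).2⟩

theorem B_fuse {x y : G} (hx : x ∈ L.B) (hx1 : x ≠ 1) (hy : y ∈ L.B) (hy1 : y ≠ 1) :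
    ∃ g ∈ P, g * x * g⁻¹ = y := by
  obtain ⟨hxP, hx2, -⟩ := L.mem_od.mp hx.2
  obtain ⟨hyP, hy2, -⟩ := L.mem_od.mp hy.2
  have hne : ∀ {w : G} (hw : w ∈ P), (L.e ⟨w, hw⟩).2 = 1 → w ≠ 1 → (L.e ⟨w, hw⟩).1 ≠ 1 := fun hw h2 h1 e =>
    h1 (congrArg Subtype.val ((map_eq_one_iff L.e L.e.injective).mp (Prod.ext e h2)) :)
  obtain ⟨σ, hσ⟩ := klein_conj _ _ (mem_klein.mp (L.loc.mem_A.mp hx.1).2) (hne hxP hx2 hx1)
    (mem_klein.mp (L.loc.mem_A.mp hy.1).2) (hne hyP hy2 hy1)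
  have he : L.e.symm (σ, 1) * ⟨x, hxP⟩ * (L.e.symm (σ, 1))⁻¹ = ⟨y, hyP⟩ := L.e.injective (by
    rw [map_mul, map_mul, map_inv, L.e.apply_symm_apply]
    refine Prod.ext hσ ?_
    rw [Prod.snd_mul, Prod.snd_mul, Prod.snd_inv, hx2, hy2, one_mul, one_mul, inv_one])
  exact ⟨_, SetLike.coe_mem _, congrArg Subtype.val he⟩

/-! ### Two of them -/

include L in
theorem mem_T (S : Sylow 2 G) (hTS : T ≤ (S : Subgroup G)) {g : G} (hg : g ∈ (S : Subgroup G)) (hgP : g ∈ P) :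
    g ∈ T :=
  JComp.sylow_in_max L.syl (S.isPGroup'.to_le inf_le_left) (le_inf hTS L.syl.1) inf_le_right ⟨hg, hgP⟩

theorem fix_z {g z d : G} (hz1 : z ≠ 1) (hsq : ∀ t ∈ T, t * t = 1 ∨ t * t = z) (hd : d ∈ T) (hdz : d * d = z)
    (hg : ∀ t ∈ T, g * t * g⁻¹ ∈ T) : g * z * g⁻¹ = z := by
  have e : g * z * g⁻¹ = (g * d * g⁻¹) * (g * d * g⁻¹) := by rw [← hdz]; group
  rcases hsq _ (hg d hd) with h | h
  · exact absurd (conj_eq_one_iff.mp (e.trans h)) hz1
  · exact e.trans h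

variable {Q : Subgroup G} (M : Loc2 T Q) (hne : P ≠ Q)
include L M hne

theorem not_le : ¬ L.B ≤ M.loc.A := fun h => by
  obtain ⟨v, hvO, hvA, hvM⟩ := M.loc.exists_cross L.loc hne.symm
  exact hvM (h ⟨hvA, hvO⟩)

theorem card_inf_B : Nat.card ↥(L.B ⊓ M.B) ≤ 2 := by
  have h : L.B ⊓ M.B ≠ L.B := fun e => L.not_le M hne ((inf_eq_left.mp e).trans inf_le_left)
  have hd := card_dvd_of_le (inf_le_left : L.B ⊓ M.B ≤ L.B)
  have hlt : Nat.card ↥(L.B ⊓ M.B) ≠ 4 := fun e => h (eq_of_le_of_card_ge inf_le_left (by rw [e, L.card_B]))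
  rw [L.card_B] at hd
  have := Nat.le_of_dvd (by norm_num) hd
  interval_cases hc : Nat.card ↥(L.B ⊓ M.B)
  all_goals first
    | omega
    | norm_num at hd

theorem exists_z : ∃ z, z ∈ L.B ∧ z ∈ M.B ∧ z ≠ 1 ∧ (∀ t ∈ T, t * t = 1 ∨ t * t = z) ∧
    ∀ y ∈ L.B ⊓ M.B, y = 1 ∨ y = z := by
  obtain ⟨u, hu, huM⟩ := SetLike.not_le_iff_exists.mp (L.not_le M hne)
  obtain ⟨v, hv, hvL⟩ := SetLike.not_le_iff_exists.mp (M.not_le L hne.symm)
  have hd : u * v ∈ T := mul_mem (L.B_le hu) (M.B_le hv)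
  have hd2 : u * v * (u * v) ≠ 1 := fun e => by
    rcases L.loc.invol_mem M.loc hne hd e with h | h
    · exact hvL (by simpa using mul_mem (L.loc.A.inv_mem hu.1) h)
    · exact huM (by simpa [mul_assoc] using mul_mem h (M.loc.A.inv_mem hv.1))
  have hz : u * v * (u * v) ∈ L.B ⊓ M.B := ⟨L.sq_mem_B hd, M.sq_mem_B hd⟩
  have hle := L.card_inf_B M hne
  have hall : ∀ y ∈ L.B ⊓ M.B, y = 1 ∨ y = u * v * (u * v) := fun y hy => by
    by_contra h
    push Not at h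
    have hc : ({1, u * v * (u * v), y} : Set G) ⊆ ((L.B ⊓ M.B : Subgroup G) : Set G) := by
      rintro x (rfl | rfl | rfl)
      · exact one_mem _
      · exact hz
      · exact hy
    have h3 := Set.ncard_le_ncard hc (Set.toFinite _)
    rw [Set.ncard_insert_of_notMem (by simp [Ne.symm hd2, Ne.symm h.1]), Set.ncard_pair (Ne.symm h.2),
      ← Nat.card_coe_set_eq] at h3
    change 2 + 1 ≤ Nat.card ↥(L.B ⊓ M.B) at h3
    omega
  exact ⟨_, hz.1, hz.2, hd2, fun t ht => hall _ ⟨L.sq_mem_B ht, M.sq_mem_B ht⟩, hall⟩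

theorem card_D : Nat.card ↥(L.B ⊔ M.B) = 8 ∧ L.c ∉ L.B ⊔ M.B := by
  obtain ⟨z, hzL, hzM, hz1, -, -⟩ := L.exists_z M hne
  obtain ⟨v, hv, hvL⟩ := SetLike.not_le_iff_exists.mp (M.not_le L hne.symm)
  have hn : L.B ≤ normalizer (M.B : Set G) := fun g hg =>
    JComp.mem_normalizer_of_conj_mem fun x hx => M.B_conj (M.syl.1 (L.B_le hg)) hx
  have h := JComp.card_sup_mul_card_inf hn
  rw [L.card_B, M.card_B] at h
  have h2 : 2 ≤ Nat.card ↥(L.B ⊓ M.B) := by
    haveI : Nontrivial ↥(L.B ⊓ M.B) := ⟨⟨1, ⟨z, hzL, hzM⟩, fun e => hz1 (congrArg Subtype.val e).symm⟩⟩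
    exact Finite.one_lt_card
  have h2' := L.card_inf_B M hne
  rw [show Nat.card ↥(L.B ⊓ M.B) = 2 by omega] at h
  refine ⟨by omega, fun hc => ?_⟩
  have hle : L.B ⊔ zpowers L.c ≤ L.loc.A := sup_le inf_le_left (zpowers_le.mpr L.c_mem_A)
  obtain ⟨k, hk⟩ := card_dvd_of_le (le_sup_left : L.B ≤ L.B ⊔ zpowers L.c)
  have hk1 : k ≠ 1 := fun e => by
    have e0 : L.B = L.B ⊔ zpowers L.c := eq_of_le_of_card_ge le_sup_left (by rw [hk, e, mul_one])
    have hcB : L.c ∈ L.B := e0.ge (mem_sup_right (mem_zpowers _))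
    exact L.c_not_od hcB.2
  have hk0 : k ≠ 0 := fun e => by
    rw [e, mul_zero] at hk
    exact Nat.card_pos.ne' hk
  rw [L.card_B] at hk
  have e1 : L.B ⊔ zpowers L.c = L.loc.A := eq_of_le_of_card_ge hle (by rw [L.card_A, hk]; omega)
  have e2 : L.loc.A = L.B ⊔ M.B := eq_of_le_of_card_ge
    (e1.ge.trans (sup_le le_sup_left (zpowers_le.mpr hc))) (by rw [L.card_A]; omega)
  exact hvL (e2.ge (mem_sup_right hv))

theorem A_inter_D : L.loc.A ⊓ (L.B ⊔ M.B) = L.B := by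
  obtain ⟨-, hc⟩ := L.card_D M hne
  have hle : L.B ≤ L.loc.A ⊓ (L.B ⊔ M.B) := fun y hy => ⟨hy.1, mem_sup_left hy⟩
  refine (eq_of_le_of_card_ge hle ?_).symm
  obtain ⟨k, hk⟩ := card_dvd_of_le (inf_le_left : L.loc.A ⊓ (L.B ⊔ M.B) ≤ L.loc.A)
  rw [L.card_A] at hk
  have hk1 : k ≠ 1 := fun e => hc
    ((eq_of_le_of_card_ge inf_le_left (by rw [L.card_A, hk, e, mul_one])).ge L.c_mem_A).2
  have hk0 : k ≠ 0 := fun e => by rw [e, mul_zero] at hk; norm_num at hk
  rw [L.card_B]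
  by_contra hlt
  have : Nat.card ↥(L.loc.A ⊓ (L.B ⊔ M.B)) * 2 ≤ 8 := hk ▸ Nat.mul_le_mul_left _ (by omega)
  omega

theorem invol_D {d : G} (hd : d ∈ L.B ⊔ M.B) (h2 : d * d = 1) : d ∈ L.B ∨ d ∈ M.B := by
  rcases L.loc.invol_mem M.loc hne ((sup_le L.B_le M.B_le) hd) h2 with h | h
  · exact Or.inl ((L.A_inter_D M hne).le ⟨h, hd⟩)
  · exact Or.inr ((M.A_inter_D L hne.symm).le ⟨h, sup_comm L.B M.B ▸ hd⟩)

theorem elem_eight {E : Subgroup G} (hE : E ≤ T) (h2 : ∀ a ∈ E, a * a = 1) (hc : Nat.card E = 8) :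
    E = L.loc.A ∨ E = M.loc.A := by
  have h : E ≤ L.loc.A ∨ E ≤ M.loc.A := by
    by_contra hcon
    push Not at hcon
    obtain ⟨a, ha, haL⟩ := SetLike.not_le_iff_exists.mp hcon.1
    obtain ⟨b, hb, hbM⟩ := SetLike.not_le_iff_exists.mp hcon.2
    have haM := (L.loc.invol_mem M.loc hne (hE ha) (h2 a ha)).resolve_left haL
    have hbL := (L.loc.invol_mem M.loc hne (hE hb) (h2 b hb)).resolve_right hbM
    rcases L.loc.invol_mem M.loc hne (hE (mul_mem ha hb)) (h2 _ (mul_mem ha hb)) with h | h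
    · exact haL (by simpa [mul_assoc] using mul_mem h (inv_mem hbL))
    · exact hbM (by simpa using mul_mem (inv_mem haM) h)
  exact h.imp (fun h => eq_of_le_of_card_ge h (by rw [hc, L.card_A]))
    fun h => eq_of_le_of_card_ge h (by rw [hc, M.card_A])

theorem map_A {g : G} (hg : g ∈ normalizer (T : Set G)) :
    L.loc.A.map (MulAut.conj g).toMonoidHom = L.loc.A ∨ L.loc.A.map (MulAut.conj g).toMonoidHom = M.loc.A := by
  refine L.elem_eight M hne ?_ ?_ ?_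
  · exact (map_mono L.loc.A_le_T).trans (le_of_eq (Local.map_conj_eq_of_mem_normalizer hg))
  · rintro _ ⟨a, ha, rfl⟩
    rw [← map_mul, L.loc.A_sq ha, map_one]
  · rw [card_map_of_injective (MulEquiv.injective (MulAut.conj g)), L.card_A]

variable (S : Sylow 2 G) (hTS : T ≤ (S : Subgroup G))
include hTS

theorem swap {g : G} (hgS : g ∈ (S : Subgroup G)) (hg : g ∈ normalizer (T : Set G)) (hgT : g ∉ T) :
    L.loc.A.map (MulAut.conj g).toMonoidHom = M.loc.A := by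
  refine (L.map_A M hne hg).resolve_left fun e => hgT (L.mem_T S hTS hgS ?_)
  rw [← L.loc.normalizer_A]
  exact Local.mem_normalizer_of_map_conj_eq e

theorem conj_B {g x : G} (hgS : g ∈ (S : Subgroup G)) (hg : g ∈ normalizer (T : Set G)) (hgT : g ∉ T)
    (hx : x ∈ L.B) : g * x * g⁻¹ ∈ M.B := by
  have e := L.swap M hne S hTS hgS hg hgT
  refine ⟨e ▸ ⟨x, hx.1, rfl⟩, ?_⟩
  have h := od_conj (g := g) hx.2
  have hPQ : P.map (MulAut.conj g).toMonoidHom = Q := by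
    rw [← L.loc.normalizer_A, CfsgLib.JComp.normalizer_map_conj, e, M.loc.normalizer_A]
  rwa [hPQ] at h

theorem c_moved {g : G} (hgS : g ∈ (S : Subgroup G)) (hgT : g ∉ T) : g * L.c * g⁻¹ ≠ L.c := fun e =>
  hgT (L.mem_T S hTS hgS (L.centralizer_c.le (mem_centralizer_singleton_iff.mpr (mul_inv_eq_iff_eq_mul.mp e))))

theorem fixed_inter {g z : G} (hgS : g ∈ (S : Subgroup G)) (hgT : g ∉ T) (hzL : z ∈ L.B) (hzM : z ∈ M.B)
    (hz1 : z ≠ 1) (hgz : g * z * g⁻¹ = z) {x : G} (hxL : x ∈ L.loc.A) (hxM : x ∈ M.loc.A)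
    (hgx : g * x * g⁻¹ = x) : x = 1 ∨ x = z := by
  have hcI : L.c ∈ L.loc.A ⊓ M.loc.A := ⟨L.c_mem_A, M.loc.cent_A (L.loc.A_le_T L.c_mem_A) fun a ha =>
    (L.c_comm (L.syl.1 (M.loc.A_le_T ha))).symm⟩
  have hcz : L.c ≠ z := fun e => L.c_not_od (e ▸ hzL.2)
  have hmv := L.c_moved M hne S hTS hgS hgT
  by_contra hcon
  push Not at hcon
  have hxc : x ≠ L.c := fun e => hmv (e ▸ hgx)
  have hxcz : x ≠ L.c * z := fun e => hmv (by
    have h : g * L.c * g⁻¹ * (g * z * g⁻¹) = L.c * z := by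
      rw [← e]
      conv_rhs => rw [← hgx, e]
      group
    rw [hgz] at h
    exact mul_right_cancel h)
  have hsub : ({1, z, L.c, L.c * z, x} : Set G) ⊆ ((L.loc.A ⊓ M.loc.A : Subgroup G) : Set G) := by
    rintro y (rfl | rfl | rfl | rfl | rfl)
    · exact one_mem _
    · exact ⟨hzL.1, hzM.1⟩
    · exact hcI
    · exact mul_mem hcI ⟨hzL.1, hzM.1⟩
    · exact ⟨hxL, hxM⟩
  have h5 := Set.ncard_le_ncard hsub (Set.toFinite _)
  have hcard := L.loc.card_inf M.loc hne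
  rw [M.card_A] at hcard
  rw [← Nat.card_coe_set_eq ((L.loc.A ⊓ M.loc.A : Subgroup G) : Set G)] at h5
  change _ ≤ Nat.card ↥(L.loc.A ⊓ M.loc.A) at h5
  have h1c : L.c * z ≠ 1 := fun e => hcz (by
    rw [eq_inv_of_mul_eq_one_left e, inv_eq_of_mul_eq_one_left (L.loc.A_sq hzL.1)])
  rw [Set.ncard_insert_of_notMem (by simp [hz1.symm, L.c_ne.symm, h1c.symm, hcon.1.symm]),
    Set.ncard_insert_of_notMem (by simp [hcz.symm, L.c_ne, hcon.2.symm]),
    Set.ncard_insert_of_notMem (by simp [hz1, hxc.symm]), Set.ncard_pair hxcz.symm] at h5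
  omega

theorem elem_le_T {E : Subgroup G} (hE : E ≤ (S : Subgroup G) ⊓ normalizer (T : Set G))
    (h2 : ∀ a ∈ E, a * a = 1) (hc : Nat.card E = 8) : E ≤ T := by
  intro e he
  by_contra heT
  obtain ⟨z, hzL, hzM, hz1, hsq, -⟩ := L.exists_z M hne
  obtain ⟨u, hu, huM⟩ := SetLike.not_le_iff_exists.mp (L.not_le M hne)
  obtain ⟨v, hv, hvL⟩ := SetLike.not_le_iff_exists.mp (M.not_le L hne.symm)
  have hd : u * v ∈ T := mul_mem (L.B_le hu) (M.B_le hv)
  have hdz : u * v * (u * v) = z := (hsq _ hd).resolve_left fun e => by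
    rcases L.loc.invol_mem M.loc hne hd e with h | h
    · exact hvL (by simpa using mul_mem (L.loc.A.inv_mem hu.1) h)
    · exact huM (by simpa [mul_assoc] using mul_mem h (M.loc.A.inv_mem hv.1))
  have hez : e * z * e⁻¹ = z :=
    fix_z hz1 hsq hd hdz fun t ht => (mem_normalizer_iff.mp (hE he).2 t).mp ht
  have hfix : ∀ x ∈ E ⊓ T, x = 1 ∨ x = z := fun x hx => by
    have hex : e * x * e⁻¹ = x := by
      have : e * x = x * e := by
        calc e * x = (e * x)⁻¹ := eq_inv_of_mul_eq_one_left (h2 _ (mul_mem he hx.1))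
          _ = x * e := by
            rw [mul_inv_rev, inv_eq_of_mul_eq_one_left (h2 _ hx.1), inv_eq_of_mul_eq_one_left (h2 _ he)]
      rw [this, mul_inv_cancel_right]
    have hboth : x ∈ L.loc.A ∧ x ∈ M.loc.A := by
      rcases L.loc.invol_mem M.loc hne hx.2 (h2 _ hx.1) with h | h
      · exact ⟨h, L.swap M hne S hTS (hE he).1 (hE he).2 heT ▸ ⟨x, h, hex⟩⟩
      · exact ⟨M.swap L hne.symm S hTS (hE he).1 (hE he).2 heT ▸ ⟨x, h, hex⟩, h⟩
    exact L.fixed_inter M hne S hTS (hE he).1 heT hzL hzM hz1 hez hboth.1 hboth.2 hex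
  have hsub : ((E ⊓ T : Subgroup G) : Set G) ⊆ {1, z} := fun x hx => hfix x hx
  have h2' := (Set.ncard_le_ncard hsub (Set.toFinite _)).trans (Set.ncard_insert_le _ _)
  rw [Set.ncard_singleton, ← Nat.card_coe_set_eq] at h2'
  change Nat.card ↥(E ⊓ T) ≤ 2 at h2'
  -- the part inside `T` has index at most two
  have hle : ((E : Subgroup G) : Set G) ⊆
      ((E ⊓ T : Subgroup G) : Set G) ∪ (fun x => e * x) '' ((E ⊓ T : Subgroup G) : Set G) := fun x hx => by
    by_cases hxT : x ∈ T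
    · exact Or.inl ⟨hx, hxT⟩
    refine Or.inr ⟨e * x, ⟨mul_mem he hx, ?_⟩, by simp [← mul_assoc, h2 e he]⟩
    refine L.mem_T S hTS (mul_mem (hE he).1 (hE hx).1) ?_
    rw [← L.loc.normalizer_A]
    refine Local.mem_normalizer_of_map_conj_eq ?_
    rw [← JComp.conj_map_map, L.swap M hne S hTS (hE hx).1 (hE hx).2 hxT,
      M.swap L hne.symm S hTS (hE he).1 (hE he).2 heT]
  have h4 := ((Set.ncard_le_ncard hle (Set.toFinite _)).trans (Set.ncard_union_le _ _)).trans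
    (Nat.add_le_add_left (Set.ncard_image_le (Set.toFinite _)) _)
  rw [← Nat.card_coe_set_eq, ← Nat.card_coe_set_eq] at h4
  change Nat.card ↥E ≤ Nat.card ↥(E ⊓ T) + Nat.card ↥(E ⊓ T) at h4
  omega

theorem le_normalizer_T : (S : Subgroup G) ≤ normalizer (T : Set G) := by
  set R := (S : Subgroup G) ⊓ normalizer (T : Set G) with hR
  by_contra hcon
  have hlt : R < (S : Subgroup G) := lt_of_le_of_ne inf_le_left fun e => hcon (e.ge.trans inf_le_right)
  obtain ⟨g, hg, hgR⟩ := SetLike.exists_of_lt (JComp.exists_normalizer_gt S.isPGroup' hlt)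
  refine hgR ⟨hg.1, Local.mem_normalizer_of_map_conj_eq ?_⟩
  have hA : ∀ {A : Subgroup G}, A ≤ T → (∀ a ∈ A, a * a = 1) → Nat.card A = 8 →
      A.map (MulAut.conj g).toMonoidHom ≤ T := fun {A} hA h2 h8 => by
    refine L.elem_le_T M hne S hTS ?_ ?_ ?_
    · rintro _ ⟨a, ha, rfl⟩
      exact (mem_normalizer_iff.mp hg.2 a).mp ⟨hTS (hA ha), le_normalizer (hA ha)⟩
    · rintro _ ⟨a, ha, rfl⟩
      rw [← map_mul, h2 a ha, map_one]
    · rw [card_map_of_injective (MulEquiv.injective (MulAut.conj g)), h8]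
  refine eq_of_le_of_card_ge ?_ (card_map_of_injective (MulEquiv.injective (MulAut.conj g))).ge
  calc T.map (MulAut.conj g).toMonoidHom = (L.loc.A ⊔ M.loc.A).map (MulAut.conj g).toMonoidHom := by
        rw [L.loc.sup_eq M.loc hne]
    _ = L.loc.A.map (MulAut.conj g).toMonoidHom ⊔ M.loc.A.map (MulAut.conj g).toMonoidHom := map_sup _ _ _
    _ ≤ T := sup_le (hA L.loc.A_le_T (fun a => L.loc.A_sq) L.card_A)
      (hA M.loc.A_le_T (fun a => M.loc.A_sq) M.card_A)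

theorem normalizer_S_le : normalizer ((S : Subgroup G) : Set G) ≤ normalizer (T : Set G) := fun g hg => by
  refine JComp.mem_normalizer_of_conj_mem fun t ht => ?_
  have hA : ∀ {A : Subgroup G}, A ≤ T → (∀ a ∈ A, a * a = 1) → Nat.card A = 8 →
      A.map (MulAut.conj g).toMonoidHom ≤ T := fun {A} hA h2 h8 => by
    refine L.elem_le_T M hne S hTS ?_ ?_ ?_
    · rintro _ ⟨a, ha, rfl⟩
      have := (mem_normalizer_iff.mp hg a).mp (hTS (hA ha))
      exact ⟨this, L.le_normalizer_T M hne S hTS this⟩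
    · rintro _ ⟨a, ha, rfl⟩
      rw [← map_mul, h2 a ha, map_one]
    · rw [card_map_of_injective (MulEquiv.injective (MulAut.conj g)), h8]
  obtain ⟨a, ha, b, hb, rfl⟩ := L.loc.mem_mul M.loc hne ht
  rw [← conj_mul]
  exact mul_mem (hA L.loc.A_le_T (fun a => L.loc.A_sq) L.card_A ⟨a, ha, rfl⟩)
    (hA M.loc.A_le_T (fun a => M.loc.A_sq) M.card_A ⟨b, hb, rfl⟩)

omit hne hTS in
theorem isConj_c_not_B {y : G} (hy : y ∈ L.B ⊔ M.B) (hne : P ≠ Q) : ¬ IsConj L.c y := by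
  intro hconj
  obtain ⟨g, hg⟩ := isConj_iff.mp hconj
  obtain ⟨z, hzL, hzM, hz1, hsq, -⟩ := L.exists_z M hne
  have hy1 : y ≠ 1 := fun e => L.c_ne (conj_eq_one_iff.mp (hg.trans e))
  have hy2 : y * y = 1 := by
    rw [← hg, show g * L.c * g⁻¹ * (g * L.c * g⁻¹) = g * (L.c * L.c) * g⁻¹ by group, L.c_sq]
    group
  obtain ⟨n, hn⟩ : ∃ n : G, n * L.c * n⁻¹ = z := by
    rcases L.invol_D M hne hy hy2 with h | h
    · obtain ⟨k, -, hk⟩ := L.B_fuse h hy1 hzL hz1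
      exact ⟨k * g, by rw [← hk, ← hg]; group⟩
    · obtain ⟨k, -, hk⟩ := M.B_fuse h hy1 hzM hz1
      exact ⟨k * g, by rw [← hk, ← hg]; group⟩
  -- `T` is a Sylow subgroup of both centralizers
  set Z := centralizer ({z} : Set G) with hZ
  have hTZ : T ≤ Z := fun t ht => mem_centralizer_singleton_iff.mpr
    (L.loc.inf_central M.loc hne hzL.1 hzM.1 ht)
  have hPZ : P.map (MulAut.conj n).toMonoidHom = Z := by
    rw [← L.centralizer_c, hZ, ← hn]
    ext x
    simp only [mem_map, mem_centralizer_singleton_iff]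
    constructor
    · rintro ⟨w, hw, rfl⟩
      show n * w * n⁻¹ * (n * L.c * n⁻¹) = n * L.c * n⁻¹ * (n * w * n⁻¹)
      rw [show n * w * n⁻¹ * (n * L.c * n⁻¹) = n * (w * L.c) * n⁻¹ by group, hw]
      group
    · intro hx
      refine ⟨n⁻¹ * x * n, ?_, by simp [mul_assoc]⟩
      calc n⁻¹ * x * n * L.c = n⁻¹ * (x * (n * L.c * n⁻¹)) * n := by group
        _ = L.c * (n⁻¹ * x * n) := by rw [hx]; group
  have hsylZ : IsSylowTwoIn (T.map (MulAut.conj n).toMonoidHom) Z :=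
    hPZ ▸ JComp.isSylowTwoIn_map _ (MulEquiv.injective (MulAut.conj n)) L.syl
  obtain ⟨l, hl, hlT⟩ := JComp.exists_conj_le hsylZ L.syl.2.1 hTZ
  have e : T.map (MulAut.conj l).toMonoidHom = T.map (MulAut.conj n).toMonoidHom := eq_of_le_of_card_ge hlT (by
    rw [card_map_of_injective (MulEquiv.injective _), card_map_of_injective (MulEquiv.injective _)])
  have hm : l⁻¹ * n ∈ normalizer (T : Set G) := Local.mem_normalizer_of_map_conj_eq (by
    rw [← JComp.conj_map_map, ← e, JComp.conj_map_map, inv_mul_cancel, JComp.conj_map_one])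
  -- which fixes `z`
  obtain ⟨u, hu, huM⟩ := SetLike.not_le_iff_exists.mp (L.not_le M hne)
  obtain ⟨v, hv, hvL⟩ := SetLike.not_le_iff_exists.mp (M.not_le L hne.symm)
  have hd : u * v ∈ T := mul_mem (L.B_le hu) (M.B_le hv)
  have hdz : u * v * (u * v) = z := (hsq _ hd).resolve_left fun e => by
    rcases L.loc.invol_mem M.loc hne hd e with h | h
    · exact hvL (by simpa using mul_mem (L.loc.A.inv_mem hu.1) h)
    · exact huM (by simpa [mul_assoc] using mul_mem h (M.loc.A.inv_mem hv.1))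
  have e2 : (l⁻¹ * n) * z * (l⁻¹ * n)⁻¹ = z := by
    have he : ∀ w : G, (l⁻¹ * n) * (w * w) * (l⁻¹ * n)⁻¹ =
        (l⁻¹ * n) * w * (l⁻¹ * n)⁻¹ * ((l⁻¹ * n) * w * (l⁻¹ * n)⁻¹) := fun w => by group
    rcases hsq _ ((mem_normalizer_iff.mp hm _).mp hd) with h | h
    · exact absurd (conj_eq_one_iff.mp ((congrArg (fun w => (l⁻¹ * n) * w * (l⁻¹ * n)⁻¹) hdz.symm).trans
        ((he _).trans h))) hz1
    · exact (congrArg (fun w => (l⁻¹ * n) * w * (l⁻¹ * n)⁻¹) hdz.symm).trans ((he _).trans h)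
  have e3 : (l⁻¹ * n) * L.c * (l⁻¹ * n)⁻¹ = z := by
    rw [show (l⁻¹ * n) * L.c * (l⁻¹ * n)⁻¹ = l⁻¹ * (n * L.c * n⁻¹) * l by group, hn, mul_assoc,
      ← mem_centralizer_singleton_iff.mp hl, inv_mul_cancel_left]
  exact L.c_not_od ((conj_injective_aux e3 e2) ▸ hzL.2)
where
  conj_injective_aux {g a b w : G} (h1 : g * a * g⁻¹ = w) (h2 : g * b * g⁻¹ = w) : a = b :=
    (MulAut.conj g).injective (h1.trans h2.symm)

end Loc2

end CfsgLib.ZNStructure
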